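import Cfsg.Agent.Lib.Suzuki.BinaryEven

/-!
Traces, classes, and products of two conjugates in a Suzuki group.
-/

set_option autoImplicit false

namespace CfsgLib.Suzuki

open scoped Pointwise

variable {F : Type*} [Field F] {m : ℕ}

/-- The trace of an element in the natural representation. -/
def tr (g : Cfsg.Sz F m) : F :=
  Matrix.trace ((g : Matrix.SpecialLinearGroup (Fin 4) F) : Matrix (Fin 4) (Fin 4) F)

theorem tr_comm (g k : Cfsg.Sz F m) : tr (g * k) = tr (k * g) := by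
  simp only [tr, Subgroup.coe_mul, Matrix.SpecialLinearGroup.coe_mul]
  exact Matrix.trace_mul_comm _ _

theorem tr_conj {g k : Cfsg.Sz F m} (hgk : IsConj g k) : tr k = tr g := by
  obtain ⟨c, rfl⟩ := isConj_iff.1 hgk
  rw [tr_comm, ← mul_assoc, inv_mul_cancel, one_mul]

/-- The hyperplane of the pairing. -/
def InI (m : ℕ) (v : F) : Prop := ∃ c, v = th m c + c

/-- The conjugacy class of a product of two conjugates. -/
def IsProd {G : Type*} [Group G] (x g : G) : Prop :=
  ∃ a b, IsConj x a ∧ IsConj x b ∧ g = a * b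

theorem IsProd.of_conj {G : Type*} [Group G] {x g g' : G} (hgg : IsConj g g') (hp : IsProd x g) : IsProd x g' := by
  obtain ⟨a, b, ha, hb, rfl⟩ := hp
  obtain ⟨c, rfl⟩ := isConj_iff.1 hgg
  exact ⟨c * a * c⁻¹, c * b * c⁻¹, ha.trans (isConj_iff.2 ⟨c, rfl⟩), hb.trans (isConj_iff.2 ⟨c, rfl⟩), by group⟩

namespace Hyp

variable (h : Hyp F m)
include h

theorem inI_add {u v : F} (hu : InI m u) (hv : InI m v) : InI m (u + v) := by
  obtain ⟨c, rfl⟩ := hu
  obtain ⟨d, rfl⟩ := hv
  exact ⟨c + d, by rw [h.th_add]; ring⟩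

theorem inI_zero : InI m (0 : F) := ⟨0, by rw [th_zero, add_zero]⟩

theorem not_inI_one : ¬ InI m (1 : F) := by
  rintro ⟨c, hc⟩
  have h1 : th m (th m c) + th m c = 1 := by rw [← h.th_add, ← hc, th_one]
  rw [h.th_th] at h1
  have h2 : c * (c + 1) = 0 := by linear_combination h1 + hc + c * h.two_eq_zero
  rcases mul_eq_zero.1 h2 with e | e
  · rw [e, th_zero, add_zero] at hc; exact one_ne_zero hc
  · rw [h.add_eq_zero_iff] at e
    rw [e, th_one, h.add_self] at hc
    exact one_ne_zero hc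

theorem inI_or (v : F) : InI m v ∨ InI m (v + 1) := by
  obtain ⟨c, hc | hc⟩ := h.pairing_cover v
  · exact Or.inl ⟨c, hc⟩
  · exact Or.inr ⟨c, by linear_combination hc + h.two_eq_zero⟩

theorem not_inI_iff {v : F} : ¬ InI m v ↔ InI m (v + 1) := by
  refine ⟨fun hn => (h.inI_or v).resolve_left hn, fun h1 hv => h.not_inI_one ?_⟩
  have := h.inI_add hv h1
  rwa [← add_assoc, h.add_self, zero_add] at this

theorem inI_th_iff {v : F} : InI m (th m v) ↔ InI m v := by
  constructor <;> intro hv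
  · have := h.inI_add hv ⟨v, rfl⟩
    rwa [← add_assoc, h.add_self, zero_add] at this
  · have := h.inI_add hv ⟨v, rfl⟩
    rwa [show v + (th m v + v) = th m v by linear_combination v * h.two_eq_zero] at this

theorem eq_zero_of_forall_inI {k : F} (hk : ∀ v, InI m (k * v)) : k = 0 := by
  by_contra h0
  exact h.not_inI_one (by have := hk k⁻¹; rwa [mul_inv_cancel₀ h0] at this)

/-- The quadratic form `y ↦ tr (k y θy)` plus a linear form is not identically zero. -/
theorem exists_not_inI {k : F} (hk : k ≠ 0) {lin : F → F} (hlin : ∀ x y, lin (x + y) = lin x + lin y) :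
    ∃ y, ¬ InI m (k * (th m y * y) + lin y) := by
  by_contra hno
  push Not at hno
  refine hk (h.eq_zero_of_forall_inI fun v => ?_)
  obtain ⟨x, y, hxy⟩ := h.exists_commutator_eq v
  have := h.inI_add (h.inI_add (hno (x + y)) (hno x)) (hno y)
  have he : k * (th m (x + y) * (x + y)) + lin (x + y) + (k * (th m x * x) + lin x) + (k * (th m y * y) + lin y) =
      k * v := by
    rw [hlin, h.th_add, ← hxy]
    linear_combination (k * (th m x * x) + k * (th m y * y) + lin x + lin y) * h.two_eq_zero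
  rwa [he] at this

/-! ### Traces -/

theorem tr_u (a b : F) : tr (h.u a b) = 0 := by
  have e : tr (h.u a b) = 4 := by
    simp [tr, u, uMat, Matrix.trace, Fin.sum_univ_four]; norm_num
  rw [e]; linear_combination (2 : F) * h.two_eq_zero

theorem tr_u_lower (a₁ b₁ p b : F) :
    tr (h.u a₁ b₁ * (h.w * h.u p b * h.w)) =
      a₁ * p + (b₁ + th m a₁ * a₁) * b + fz m a₁ b₁ * fz m p b + th m a₁ * th m p +
        b₁ * (b + th m p * p) + a₁ * p := by
  simp [tr, u, w, uMat, Cfsg.suzukiForm, Matrix.trace, Fin.sum_univ_four, Matrix.vecMul, Matrix.mul_apply,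
    dotProduct]
  linear_combination (2 : F) * h.two_eq_zero

theorem tr_std2 (β : F) : tr (h.std2 β) = th m β := by
  rw [std2, h.tr_u_lower]
  simp [fz]
  linear_combination β * h.two_eq_zero

theorem tr_wud (a b : F) (t : Fˣ) :
    tr (h.w * (h.u a b * h.d t)) = th m a * (t : F)⁻¹ + fz m a b * ((t : F) * th m (t : F))⁻¹ := by
  simp [tr, u, d, w, uMat, dMat, Cfsg.suzukiForm, Matrix.trace, Fin.sum_univ_four, Matrix.vecMul, Matrix.mul_apply,
    dotProduct]

theorem tr_u_wud (c q a b : F) (t : Fˣ) :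
    tr (h.u c q * (h.w * (h.u a b * h.d t))) =
      tr (h.w * (h.u a b * h.d t)) + fz m c q * ((t : F) * th m (t : F)) + th m c * (t : F) +
        q * (a * (t : F)) + c * ((b + th m a * a) * (t : F)⁻¹) := by
  simp [tr, u, d, w, uMat, dMat, Cfsg.suzukiForm, Matrix.trace, Fin.sum_univ_four, Matrix.vecMul, Matrix.mul_apply,
    dotProduct]
  ring

theorem tr_eq_zero_of_dvd_four {g : Cfsg.Sz F m} (hg : orderOf g ∣ 4) : tr g = 0 := by
  rcases eq_or_ne g 1 with rfl | hg1
  · rw [← h.u_zero]; exact h.tr_u 0 0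
  rcases h.trichotomy hg1 with ⟨k, a, b, rfl, -⟩ | ⟨k, t, rfl, ht⟩ | hfree
  · rw [tr_conj (g := h.u a b) (isConj_iff.2 ⟨k, rfl⟩), h.tr_u]
  · exfalso
    have h1 := h.orderOf_dvd_of_conj_H (g := k * h.d t * k⁻¹) (k := k)
      (by rw [show k⁻¹ * (k * h.d t * k⁻¹) * k = h.d t by group]; exact h.d_mem_H t)
    exact hg1 (orderOf_eq_one_iff.1 (Nat.eq_one_of_dvd_coprimes
      ((Nat.coprime_two_left.2 (h.card_units ▸ h.card_units_odd)).pow_left 2) hg h1))
  · exfalso
    exact hg1 (orderOf_eq_one_iff.1 (Nat.eq_one_of_dvd_coprimes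
      ((Nat.coprime_two_left.2 (qq_odd m)).pow_left 2) hg (h.orderOf_dvd_qq hg1 hfree)))

theorem odd_of_tr_ne_zero {g : Cfsg.Sz F m} (hg : tr g ≠ 0) : g ≠ 1 ∧ Odd (orderOf g) :=
  ⟨fun e => hg (h.tr_eq_zero_of_dvd_four (by rw [e, orderOf_one]; exact one_dvd _)),
    (h.order_cases g).resolve_left fun h4 => hg (h.tr_eq_zero_of_dvd_four h4)⟩

/-- Elements of odd order are classified by their trace. -/
theorem isConj_of_tr_eq {g k : Cfsg.Sz F m} (hg : g ≠ 1) (hgo : Odd (orderOf g)) (e : tr k = tr g) :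
    IsConj g k := by
  obtain ⟨β, hβ, hgc⟩ := h.exists_std2 hg hgo
  have htr : tr g = th m β := by rw [← tr_conj hgc, h.tr_std2]
  obtain ⟨hk1, hko⟩ := h.odd_of_tr_ne_zero (g := k) (by rw [e, htr]; exact th_ne_zero hβ)
  obtain ⟨γ, -, hkc⟩ := h.exists_std2 hk1 hko
  have hγ : th m γ = th m β := by rw [← h.tr_std2 γ, tr_conj hkc, e, htr]
  rw [h.th_injective hγ] at hkc
  exact hgc.trans hkc.symm

theorem tr_ne_zero_of_odd {g : Cfsg.Sz F m} (hg : g ≠ 1) (hgo : Odd (orderOf g)) : tr g ≠ 0 := by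
  obtain ⟨β, hβ, hgc⟩ := h.exists_std2 hg hgo
  rw [← tr_conj hgc, h.tr_std2]
  exact th_ne_zero hβ

/-- Root elements with equal first coordinate are conjugate exactly by the hyperplane. -/
theorem conj_u_one {q q' : F} (hq : InI m (q + q')) : IsConj (h.u 1 q) (h.u 1 q') := by
  obtain ⟨c, hc⟩ := hq
  refine isConj_iff.2 ⟨h.u c 0, ?_⟩
  rw [h.u_inv, h.u_mul, h.u_mul]
  congr 1
  · linear_combination c * h.two_eq_zero
  · rw [h.th_add, th_one]
    linear_combination -hc + (th m c * c + q) * h.two_eq_zero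

theorem conj_u_scale {a q : F} (ha : a ≠ 0) : IsConj (h.u a q) (h.u 1 (q / (th m a * a))) := by
  obtain ⟨t, ht⟩ := h.exists_kap (inv_ne_zero ha)
  refine isConj_iff.2 ⟨h.d t, ?_⟩
  rw [h.d_u, ht, inv_mul_cancel₀ ha, th_inv, ← mul_inv, div_eq_inv_mul]

theorem isConj_inv {g k : Cfsg.Sz F m} (hgk : IsConj g k) : IsConj g⁻¹ k⁻¹ := by
  obtain ⟨c, rfl⟩ := isConj_iff.1 hgk
  exact isConj_iff.2 ⟨c, by group⟩

theorem real_of_odd {g : Cfsg.Sz F m} (hg : g ≠ 1) (hgo : Odd (orderOf g)) : IsConj g g⁻¹ := by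
  have := h.finite_group
  have hpos : 0 < Nat.card (cenOf g) := Nat.card_pos
  rw [← h.ncard_involutions hg hgo] at hpos
  obtain ⟨s, hs, hso⟩ := (Set.ncard_pos (Set.toFinite _)).1 hpos
  exact isConj_iff.2 ⟨s, h.inv_spec hg hgo hs hso (Subgroup.mem_centralizer_singleton_iff.2 rfl)⟩

/-! ### The five cases -/

theorem prod_odd_odd {x g : Cfsg.Sz F m} (hx : x ≠ 1) (hxo : Odd (orderOf x)) (hg : g ≠ 1)
    (hgo : Odd (orderOf g)) : IsProd x g := by
  obtain ⟨β, hβ, hxc⟩ := h.exists_std2 hx hxo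
  obtain ⟨γ, hγ, hgc⟩ := h.exists_std2 hg hgo
  obtain ⟨k, hk⟩ := h.exists_smul_inf_eq (oPt m (1 : F) 0)
  have n13 : (1 : Cfsg.Sz F m) • oInf F m ≠ k • oInf F m := by
    rw [one_smul, hk]; exact (oPt_ne_oInf 1 0).symm
  have n23 : h.w • oInf F m ≠ k • oInf F m := by
    rw [h.w_smul_inf, hk]; exact fun e => one_ne_zero (oPt_injective e).1.symm
  have n12 : (1 : Cfsg.Sz F m) • oInf F m ≠ h.w • oInf F m := by
    rw [one_smul, h.w_smul_inf]; exact (oPt_ne_oInf 0 0).symm
  obtain ⟨c₁, hc₁, h12⟩ := h.pair_param n12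
  obtain ⟨c₂, hc₂, h23⟩ := h.pair_param n23
  obtain ⟨c₃, hc₃, h13⟩ := h.pair_param n13
  obtain ⟨b₁, hb₁⟩ : ∃ b, b ^ 2 = c₂ * γ / (c₁ * c₃) := by
    have := h.charP
    have := h.finite
    exact ⟨_, (frobeniusEquiv F 2).apply_symm_apply _⟩
  have hb₁0 : b₁ ≠ 0 := fun e => by
    rw [e, zero_pow (by norm_num)] at hb₁
    exact div_ne_zero (mul_ne_zero hc₂ hγ) (mul_ne_zero hc₁ hc₃) hb₁.symm
  have hb₁' : b₁ ^ 2 * (c₁ * c₃) = c₂ * γ := by rw [hb₁, div_mul_cancel₀ _ (mul_ne_zero hc₁ hc₃)]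
  set b₂ := β / (c₁ * b₁) with hb₂
  set b₃ := γ / (c₃ * b₁) with hb₃
  have hb₂0 : b₂ ≠ 0 := div_ne_zero hβ (mul_ne_zero hc₁ hb₁0)
  have hb₃0 : b₃ ≠ 0 := div_ne_zero hγ (mul_ne_zero hc₃ hb₁0)
  have C12 := h12 b₁ b₂ hb₁0 hb₂0
  have C23 := h23 b₂ b₃ hb₂0 hb₃0
  have C13 := h13 b₁ b₃ hb₁0 hb₃0
  rw [show c₁ * (b₁ * b₂) = β by rw [hb₂]; field_simp] at C12
  rw [show c₃ * (b₁ * b₃) = γ by rw [hb₃]; field_simp] at C13
  rw [show c₂ * (b₂ * b₃) = β by rw [hb₂, hb₃]; field_simp; linear_combination -hb₁'] at C23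
  refine IsProd.of_conj (C13.trans hgc.symm) ⟨_, _, hxc.trans C12.symm, hxc.trans C23.symm, ?_⟩
  simp only [one_mul, inv_one, mul_one]
  have : h.u 0 b₂ * h.u 0 b₂ = 1 := by rw [h.u_sq, th_zero, zero_mul, h.u_zero]
  rw [show h.u 0 b₁ * (h.w * h.u 0 b₂ * h.w⁻¹) * (h.w * h.u 0 b₂ * h.w⁻¹ * (k * h.u 0 b₃ * k⁻¹)) =
    h.u 0 b₁ * (h.w * (h.u 0 b₂ * h.u 0 b₂) * h.w⁻¹) * (k * h.u 0 b₃ * k⁻¹) by group, this]
  group

theorem prod_odd_two {x : Cfsg.Sz F m} (hx : x ≠ 1) (hxo : Odd (orderOf x)) {g : Cfsg.Sz F m}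
    (hg : orderOf g = 2 ∨ orderOf g = 4) : IsProd x g := by
  set τ := tr x with hτ
  have hτ0 : τ ≠ 0 := h.tr_ne_zero_of_odd hx hxo
  obtain ⟨y, hy⟩ := h.exists_not_inI hτ0 (lin := fun y => th m y) (fun a b => h.th_add a b)
  have hy0 : y ≠ 0 := fun e => hy (by simpa [e] using (h.inI_zero (F := F)))
  set t : Fˣ := Units.mk0 y⁻¹ (inv_ne_zero hy0) with htdef
  set T := (t : F) with hT
  have hT0 : T ≠ 0 := t.ne_zero
  have hθT : th m T ≠ 0 := th_ne_zero hT0
  have hχ : ¬ InI m (τ / (T * th m T) + (th m T)⁻¹) := by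
    have e : τ * (th m y * y) + th m y = τ / (T * th m T) + (th m T)⁻¹ := by
      have hy' : y = T⁻¹ := by rw [hT, htdef, Units.val_mk0, inv_inv]
      rw [hy', th_inv, div_eq_mul_inv, mul_inv]; ring
    rwa [e] at hy
  have hx' : ∀ {v : Cfsg.Sz F m}, tr v = τ → IsConj x v := fun {v} hv => h.isConj_of_tr_eq hx hxo hv
  have finish : ∀ (v z : Cfsg.Sz F m), tr v = τ → tr (z * v) = τ → IsProd x z := by
    intro v z hv hzv
    exact ⟨z * v, v⁻¹, hx' hzv, (h.real_of_odd hx hxo).trans (h.isConj_inv (hx' hv)), by group⟩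
  rcases hg with hg | hg
  · -- involutions
    refine IsProd.of_conj (h.isConj_involution hg) ?_
    obtain ⟨c, hc⟩ := h.not_inI_iff.1 hχ
    set k := T ^ 2 * th m T with hk
    have hk0 : k ≠ 0 := mul_ne_zero (pow_ne_zero 2 hT0) hθT
    have hb : th m (k * c) = th m T * k * th m c := by
      rw [th_mul, hk, th_mul, th_pow, h.th_th]; ring
    have hf : fz m (th m T) (k * c) = τ * (T * th m T) + T ^ 2 * th m T := by
      simp only [fz]
      rw [hb, h.th_th, hk]
      have hcv := congrArg (fun v => v * (T ^ 2 * th m T ^ 2)) hc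
      simp only [add_mul, one_mul] at hcv
      have e1 : τ / (T * th m T) * (T ^ 2 * th m T ^ 2) = τ * (T * th m T) := by field_simp
      have e2 : (th m T)⁻¹ * (T ^ 2 * th m T ^ 2) = T ^ 2 * th m T := by field_simp
      rw [e1, e2] at hcv
      linear_combination -hcv + (T ^ 2 * th m T ^ 2) * h.two_eq_zero
    have htr : tr (h.w * (h.u (th m T) (k * c) * h.d t)) = τ := by
      rw [h.tr_wud, ← hT, hf, h.th_th]
      rw [show (τ * (T * th m T) + T ^ 2 * th m T) * (T * th m T)⁻¹ = τ + T by field_simp,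
        show T ^ 2 * T⁻¹ = T by field_simp]
      linear_combination T * h.two_eq_zero
    refine finish _ _ htr ?_
    rw [h.tr_u_wud, ← hT, htr, th_zero]
    simp only [fz, th_zero, th_one, mul_one, zero_mul, zero_add, add_zero, one_mul]
    linear_combination (T * th m T) * h.two_eq_zero
  · -- elements of order four
    obtain ⟨b, hb⟩ := h.th_bijective.2 (τ * (T * th m T))
    have hW : th m (b / (T ^ 2 * th m T)) = τ / (T * th m T) := by
      rw [th_div, hb, th_mul, th_pow, h.th_th]; field_simp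
    have hI : InI m (1 + (th m T)⁻¹ + b / (T ^ 2 * th m T)) := by
      have hlin : InI m (b / (T ^ 2 * th m T) + τ / (T * th m T)) :=
        hW ▸ ⟨b / (T ^ 2 * th m T), add_comm _ _⟩
      have h2 := h.inI_add (h.not_inI_iff.1 hχ) hlin
      rwa [show τ / (T * th m T) + (th m T)⁻¹ + 1 + (b / (T ^ 2 * th m T) + τ / (T * th m T)) =
        1 + (th m T)⁻¹ + b / (T ^ 2 * th m T) by linear_combination (τ / (T * th m T)) * h.two_eq_zero] at h2
    obtain ⟨q, hq⟩ := hI
    have htr : tr (h.w * (h.u 0 b * h.d t)) = τ := by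
      rw [h.tr_wud, ← hT]
      simp only [fz, th_zero, zero_mul, zero_add]
      rw [hb]; field_simp
    have hprod : IsProd x (h.u 1 q) := by
      refine finish _ _ htr ?_
      rw [h.tr_u_wud, ← hT, htr, th_one, th_zero]
      simp only [fz, th_one, one_mul, one_pow, mul_one, mul_zero, zero_mul, add_zero]
      have hcv := congrArg (fun v => v * (T * th m T)) hq
      simp only [add_mul, one_mul] at hcv
      have e1 : (th m T)⁻¹ * (T * th m T) = T := by field_simp
      have e2 : b / (T ^ 2 * th m T) * (T * th m T) = b * T⁻¹ := by field_simp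
      rw [e1, e2] at hcv
      linear_combination -hcv + (T * th m T + T + b * T⁻¹) * h.two_eq_zero
    have hinv : IsProd x (h.u 1 q)⁻¹ := by
      obtain ⟨a, c, ha, hc, he⟩ := hprod
      exact ⟨c⁻¹, a⁻¹, (h.real_of_odd hx hxo).trans (h.isConj_inv hc),
        (h.real_of_odd hx hxo).trans (h.isConj_inv ha), by rw [he, mul_inv_rev]⟩
    rcases h.classes_order_four (h.orderOf_u (b := q) one_ne_zero) hg with h1 | h1
    · exact hprod.of_conj h1
    · exact hinv.of_conj h1

theorem prod_four_odd {x g : Cfsg.Sz F m} (hxo : orderOf x = 4) (hg : g ≠ 1) (hgo : Odd (orderOf g)) :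
    IsProd x g := by
  set τ := tr g with hτ
  obtain ⟨k, hk⟩ := h.th_bijective.2 τ
  have hτ0 : τ ≠ 0 := h.tr_ne_zero_of_odd hg hgo
  have hk0 : k ≠ 0 := fun e => hτ0 (by rw [← hk, e, th_zero])
  obtain ⟨y, hy⟩ := h.exists_not_inI (inv_ne_zero hk0) (lin := fun y => k⁻¹ * th m y)
    (fun a b => by rw [h.th_add, mul_add])
  have hy0 : y ≠ 0 := fun e => hy (by simpa [e] using (h.inI_zero (F := F)))
  obtain ⟨q, hq⟩ := h.not_inI_iff.1 hy
  have hF : fz m 1 q = k⁻¹ * (th m y * y) + k⁻¹ * th m y := by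
    simp only [fz, th_one, one_mul, one_pow]
    linear_combination -hq + h.two_eq_zero
  set p := k * th m y⁻¹ with hp
  have hp0 : p ≠ 0 := mul_ne_zero hk0 (th_ne_zero (inv_ne_zero hy0))
  have hθy : th m y ≠ 0 := th_ne_zero hy0
  have hθp : th m p = τ / y ^ 2 := by
    rw [hp, th_mul, hk, h.th_th, inv_pow, div_eq_mul_inv]
  set a := h.u 1 q with ha
  set b := h.w * h.u p (th m p * p * q) * h.w with hb
  have hb4 : IsConj a b := by
    have h1 := h.conj_u_scale (a := p) (q := th m p * p * q) hp0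
    rw [mul_div_cancel_left₀ _ (mul_ne_zero (th_ne_zero hp0) hp0)] at h1
    refine h1.symm.trans (isConj_iff.2 ⟨h.w, ?_⟩)
    rw [h.w_inv]
  have htr : tr (a * b) = τ := by
    have hpF : p * fz m 1 q = y + 1 := by
      rw [hF, hp, th_inv]; field_simp
    have e : fz m p (th m p * p * q) = th m p * p ^ 2 * fz m 1 q := by
      simp only [fz, th_one, one_mul, one_pow, th_mul, h.th_th]; ring
    rw [ha, hb, h.tr_u_lower, th_one, e]
    have e2 : p + (q + 1 * 1) * (th m p * p * q) + fz m 1 q * (th m p * p ^ 2 * fz m 1 q) + 1 * th m p +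
        q * (th m p * p * q + th m p * p) + p = th m p * (1 + (p * fz m 1 q) ^ 2) := by
      linear_combination (p + th m p * p * q + th m p * p * q ^ 2) * h.two_eq_zero
    rw [show (1 : F) * p = p from one_mul p, e2, hpF, hθp]
    field_simp
    linear_combination (y + 1) * h.two_eq_zero
  have hgab : IsConj g (a * b) := h.isConj_of_tr_eq hg hgo htr
  have hprod : IsProd a g := IsProd.of_conj hgab.symm ⟨a, b, IsConj.refl a, hb4, rfl⟩
  rcases h.classes_order_four hxo (h.orderOf_u (b := q) one_ne_zero) with h1 | h1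
  · obtain ⟨v, w', hv, hw', he⟩ := hprod
    exact ⟨v, w', h1.trans hv, h1.trans hw', he⟩
  · obtain ⟨v, w', hv, hw', he⟩ := hprod
    refine IsProd.of_conj (h.real_of_odd hg hgo).symm ⟨w'⁻¹, v⁻¹, ?_, ?_, by rw [he, mul_inv_rev]⟩
    · have := h.isConj_inv (h1.trans hw'); rwa [inv_inv] at this
    · have := h.isConj_inv (h1.trans hv); rwa [inv_inv] at this

theorem prod_four_four {x g : Cfsg.Sz F m} (hxo : orderOf x = 4) (hgo : orderOf g = 4) : IsProd x g := by
  have hclass : ∀ {v : Cfsg.Sz F m}, orderOf v = 4 → ∃ q, IsConj v (h.u 1 q) := by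
    intro v hv
    obtain ⟨k, a, b, ha, rfl⟩ := h.exists_conj_u_of_order_four hv
    exact ⟨_, (show IsConj (h.u a b) (k * h.u a b * k⁻¹) from isConj_iff.2 ⟨k, rfl⟩).symm.trans (h.conj_u_scale ha)⟩
  obtain ⟨q₀, hx₀⟩ := hclass hxo
  obtain ⟨δ, hg₀⟩ := hclass hgo
  obtain ⟨p, hp0, hp1⟩ := h.exists_ne_zero_one
  have h1p : 1 + p ≠ 0 := fun e => hp1 (h.add_eq_zero_iff.1 e).symm
  have h1θp : 1 + th m p ≠ 0 := by rw [← th_one (F := F) (m := m), ← h.th_add]; exact th_ne_zero h1p
  set k := (1 + th m p * p) / (th m (1 + p) * (1 + p)) with hk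
  have hk0 : k ≠ 0 := div_ne_zero (fun e => hp1 (h.th_mul_self_eq_one (h.add_eq_zero_iff.1 e).symm))
    (mul_ne_zero (th_ne_zero h1p) h1p)
  have hk1 : k ≠ 1 := fun e => by
    rw [hk, div_eq_one_iff_eq (mul_ne_zero (th_ne_zero h1p) h1p), h.th_add, th_one] at e
    rcases h.th_eq_self (h.add_eq_zero_iff.1 (show th m p + p = 0 by linear_combination -e)) with e1 | e1
    · exact hp0 e1
    · exact hp1 e1
  -- products inside the root group
  have hprod : ∀ q, InI m (q₀ + q) →
      IsProd x (h.u 1 ((q * (1 + th m p * p) + p) / (th m (1 + p) * (1 + p)))) := by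
    intro q hq
    have c1 : IsConj x (h.u 1 q) := hx₀.trans (h.conj_u_one hq)
    have c2 : IsConj (h.u p (th m p * p * q)) (h.u 1 q) := by
      have h1 := h.conj_u_scale (a := p) (q := th m p * p * q) hp0
      rwa [mul_div_cancel_left₀ _ (mul_ne_zero (th_ne_zero hp0) hp0)] at h1
    refine IsProd.of_conj ?_ ⟨h.u 1 q, h.u p (th m p * p * q), c1, c1.trans c2.symm, rfl⟩
    rw [h.u_mul, th_one, one_mul, show q + th m p * p * q + p = q * (1 + th m p * p) + p by ring]
    exact h.conj_u_scale h1p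
  set R := fun q => (q * (1 + th m p * p) + p) / (th m (1 + p) * (1 + p)) with hR
  have hlin : ∀ i, R (q₀ + i) = R q₀ + k * i := by
    intro i; simp only [hR, hk]; field_simp; ring
  by_cases hgood : InI m (R q₀ + δ)
  · exact (hprod q₀ (by rw [h.add_self]; exact h.inI_zero)).of_conj ((h.conj_u_one hgood).trans hg₀.symm)
  obtain ⟨i, hi, hki⟩ : ∃ i, InI m i ∧ ¬ InI m (k * i) := by
    by_contra hno
    push Not at hno
    by_cases hkI : InI m k
    · refine hk0 (h.eq_zero_of_forall_inI fun v => ?_)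
      rcases h.inI_or v with hv | hv
      · exact hno v hv
      · have := h.inI_add (hno _ hv) hkI
        rwa [show k * (v + 1) + k = k * v by linear_combination k * h.two_eq_zero] at this
    · refine hk1 (h.add_eq_zero_iff.1 (h.eq_zero_of_forall_inI (k := k + 1) fun v => ?_))
      rcases h.inI_or v with hv | hv
      · rw [add_mul, one_mul]; exact h.inI_add (hno v hv) hv
      · have := h.inI_add (h.inI_add (hno _ hv) hv) (h.not_inI_iff.1 hkI)
        rwa [show k * (v + 1) + (v + 1) + (k + 1) = (k + 1) * v by linear_combination (k + 1) * h.two_eq_zero] at this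
  refine (hprod (q₀ + i) (by rw [← add_assoc, h.add_self, zero_add]; exact hi)).of_conj ?_
  have hgood' : InI m (R (q₀ + i) + δ) := by
    rw [hlin]
    have := h.inI_add (h.not_inI_iff.1 hgood) (h.not_inI_iff.1 hki)
    rwa [show R q₀ + δ + 1 + (k * i + 1) = R q₀ + k * i + δ by linear_combination h.two_eq_zero] at this
  exact (h.conj_u_one hgood').trans hg₀.symm

/-- Every non-identity element is a product of two conjugates of an element of order greater than two. -/
theorem isProd_all {x g : Cfsg.Sz F m} (hx : 2 < orderOf x) (hg : g ≠ 1) : IsProd x g := by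
  have cases : ∀ {v : Cfsg.Sz F m}, v ≠ 1 → orderOf v = 2 ∨ orderOf v = 4 ∨ Odd (orderOf v) := by
    intro v hv
    rcases h.order_cases v with h4 | hodd
    · obtain ⟨i, hi, hio⟩ := (Nat.dvd_prime_pow Nat.prime_two).1 (show orderOf v ∣ 2 ^ 2 from h4)
      match i, hi, hio with
      | 0, _, hio => exact absurd (orderOf_eq_one_iff.1 (by simpa using hio)) hv
      | 1, _, hio => exact Or.inl (by simpa using hio)
      | 2, _, hio => exact Or.inr (Or.inl (by simpa using hio))
      | (_ + 3), hi, _ => omega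
    · exact Or.inr (Or.inr hodd)
  have hx1 : x ≠ 1 := fun e => by rw [e, orderOf_one] at hx; omega
  rcases cases hx1 with h2 | h4 | hxo
  · omega
  · rcases cases hg with g2 | g4 | go
    · refine IsProd.of_conj ?_ ⟨x, x, IsConj.refl x, IsConj.refl x, rfl⟩
      refine ((h.isConj_involution ?_).symm.trans (h.isConj_involution g2))
      rw [← pow_two, orderOf_pow' x two_ne_zero, h4]; rfl
    · exact h.prod_four_four h4 g4
    · exact h.prod_four_odd h4 hg go
  · rcases cases hg with g2 | g4 | go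
    · exact h.prod_odd_two hx1 hxo (Or.inl g2)
    · exact h.prod_odd_two hx1 hxo (Or.inr g4)
    · exact h.prod_odd_odd hx1 hxo hg go

end Hyp

end CfsgLib.Suzuki
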