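import Cfsg.Agent.Lib.Suzuki.Solubilizer

/-!
Classes of 2-elements and solubilizer cardinalities.
-/

set_option autoImplicit false

namespace CfsgLib.Suzuki

open scoped Pointwise

variable {F : Type*} [Field F] {m : ℕ}

namespace Hyp

variable (h : Hyp F m)
include h

theorem isConj_involution {z : Cfsg.Sz F m} (hz : orderOf z = 2) : IsConj (h.u 0 1) z := by
  obtain ⟨k, b, hb, rfl⟩ := h.involution_spec hz
  obtain ⟨c, hc⟩ := h.th_mul_self_bijective.2 b
  dsimp only at hc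
  obtain ⟨t, rfl⟩ := h.exists_kap (κ := c) (fun e => hb (by rw [← hc, e, mul_zero]))
  refine isConj_iff.2 ⟨k * h.d t, ?_⟩
  rw [show k * h.d t * h.u 0 1 * (k * h.d t)⁻¹ = k * (h.d t * h.u 0 1 * (h.d t)⁻¹) * k⁻¹ by group, h.d_u,
    mul_zero, mul_one, hc]

theorem conj_mem_classes {b : F} : IsConj (h.u 1 0) (h.u 1 b) ∨ IsConj (h.u 1 0)⁻¹ (h.u 1 b) := by
  classical
  have := h.finite
  set f : F → F := fun c => th m c + c with hf
  have hfib : ∀ a ∈ (Set.univ : Set F), {x | x ∈ (Set.univ : Set F) ∧ f x = f a}.ncard = 2 := by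
    intro a _
    rw [show {x | x ∈ (Set.univ : Set F) ∧ f x = f a} = {a, a + 1} from ?_, Set.ncard_pair]
    · intro e; exact one_ne_zero (α := F) (by linear_combination -e)
    ext x
    simp only [Set.mem_univ, true_and, Set.mem_setOf_eq, Set.mem_insert_iff, Set.mem_singleton_iff, hf]
    constructor
    · intro e
      have h1 : th m (x + a) = x + a := by
        rw [h.th_add]; linear_combination e + (th m a - x) * h.two_eq_zero
      rcases h.th_eq_self h1 with e1 | e1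
      · exact Or.inl (h.add_eq_zero_iff.1 e1)
      · exact Or.inr (by linear_combination e1 - a * h.two_eq_zero)
    · rintro (rfl | rfl)
      · rfl
      · rw [h.th_add, th_one]; linear_combination h.two_eq_zero
  have hcard := ncard_eq_mul_fibers Set.univ f 2 hfib
  rw [Set.image_univ, Set.ncard_univ] at hcard
  have hne : ∀ c, f c ≠ 1 := by
    intro c hc
    have h1 : th m (th m c) + th m c = 1 := by
      rw [← h.th_add, show th m c + c = 1 from hc, th_one]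
    rw [h.th_th] at h1
    have h2 : c * (c + 1) = 0 := by
      have hc' : th m c + c = 1 := hc
      linear_combination h1 - hc' + c * h.two_eq_zero
    rcases mul_eq_zero.1 h2 with e | e
    · rw [e] at hc; simp [hf] at hc
    · rw [h.add_eq_zero_iff] at e; rw [e] at hc
      simp only [hf, th_one, h.add_self] at hc
      exact zero_ne_one hc
  have hdisj : Disjoint (Set.range f) ((· + 1) '' Set.range f) := by
    rw [Set.disjoint_left]
    rintro _ ⟨c, rfl⟩ ⟨_, ⟨d, rfl⟩, e⟩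
    refine hne (c + d) ?_
    simp only [hf] at e ⊢
    rw [h.th_add]
    linear_combination -e + (th m d + d) * h.two_eq_zero
  have hall : Set.range f ∪ (· + 1) '' Set.range f = Set.univ := by
    refine Set.eq_of_subset_of_ncard_le (Set.subset_univ _) ?_
    rw [Set.ncard_univ, Set.ncard_union_eq hdisj, Set.ncard_image_of_injective _ (add_left_injective 1), hcard, two_mul]
  have hconj : ∀ c : F, h.u c 0 * h.u 1 0 * (h.u c 0)⁻¹ = h.u 1 (f c) := by
    intro c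
    rw [h.u_inv, h.u_mul, h.u_mul]
    congr 1
    · linear_combination c * h.two_eq_zero
    · rw [h.th_add, th_one]; simp only [hf]; linear_combination (th m c * c) * h.two_eq_zero
  rcases (hall.ge (Set.mem_univ b) : b ∈ Set.range f ∪ (· + 1) '' Set.range f) with ⟨c, rfl⟩ | ⟨_, ⟨c, rfl⟩, rfl⟩
  · exact Or.inl (isConj_iff.2 ⟨h.u c 0, hconj c⟩)
  · refine Or.inr (isConj_iff.2 ⟨h.u c 0, ?_⟩)
    have h2 : h.u c 0 * (h.u 1 0)⁻¹ * (h.u c 0)⁻¹ = (h.u c 0 * h.u 1 0 * (h.u c 0)⁻¹)⁻¹ := by group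
    rw [h2, hconj, h.u_inv, th_one, one_mul]

theorem exists_conj_u_of_order_four {x : Cfsg.Sz F m} (hx : orderOf x = 4) :
    ∃ k a b, a ≠ 0 ∧ x = k * h.u a b * k⁻¹ := by
  have hx1 : x ≠ 1 := fun e => by rw [e, orderOf_one] at hx; omega
  rcases h.trichotomy hx1 with ⟨k, a, b, rfl, hne⟩ | ⟨k, t, rfl, ht⟩ | hfree
  · refine ⟨k, a, b, fun ha => ?_, rfl⟩
    subst ha
    have hb : b ≠ 0 := fun e => hne (by rw [e, h.u_zero])
    rw [show k * h.u 0 b * k⁻¹ = MulAut.conj k (h.u 0 b) by simp, MulEquiv.orderOf_eq, h.orderOf_z hb] at hx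
    omega
  · exfalso
    have h1 := h.orderOf_dvd_of_conj_H (g := k * h.d t * k⁻¹) (k := k)
      (by rw [show k⁻¹ * (k * h.d t * k⁻¹) * k = h.d t by group]; exact h.d_mem_H t)
    rw [hx, ← h.card_units] at h1
    exact h.card_units_odd.not_two_dvd_nat ((show 2 ∣ 4 by norm_num).trans h1)
  · exfalso
    have h1 := h.orderOf_dvd_qq hx1 hfree
    rw [hx] at h1
    exact (qq_odd m).not_two_dvd_nat ((show 2 ∣ 4 by norm_num).trans h1)

theorem classes_order_four {x w : Cfsg.Sz F m} (hx : orderOf x = 4) (hw : orderOf w = 4) :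
    IsConj x w ∨ IsConj x⁻¹ w := by
  have base : ∀ {v : Cfsg.Sz F m}, orderOf v = 4 → IsConj (h.u 1 0) v ∨ IsConj (h.u 1 0)⁻¹ v := by
    intro v hv
    obtain ⟨k, a, b, ha, rfl⟩ := h.exists_conj_u_of_order_four hv
    obtain ⟨t, ht⟩ := h.exists_kap (inv_ne_zero ha)
    have h1 : IsConj (h.u 1 (th m (kap m t) * kap m t * b)) (k * h.u a b * k⁻¹) := by
      refine IsConj.symm (isConj_iff.2 ⟨h.d t * k⁻¹, ?_⟩)
      rw [show h.d t * k⁻¹ * (k * h.u a b * k⁻¹) * (h.d t * k⁻¹)⁻¹ = h.d t * h.u a b * (h.d t)⁻¹ by group, h.d_u,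
        ht, inv_mul_cancel₀ ha]
    exact h.conj_mem_classes.imp (fun e => e.trans h1) (fun e => e.trans h1)
  have hinv : ∀ {p q : Cfsg.Sz F m}, IsConj p q → IsConj p⁻¹ q⁻¹ := by
    intro p q hpq
    obtain ⟨c, rfl⟩ := isConj_iff.1 hpq
    exact isConj_iff.2 ⟨c, by group⟩
  rcases base hx with h1 | h1 <;> rcases base hw with h2 | h2
  · exact Or.inl (h1.symm.trans h2)
  · exact Or.inr ((hinv h1).symm.trans h2)
  · refine Or.inr ((hinv h1).symm.trans ?_)
    rwa [inv_inv]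
  · exact Or.inl (h1.symm.trans h2)

theorem not_isConj_inv {x : Cfsg.Sz F m} (hx : orderOf x = 4) : ¬ IsConj x x⁻¹ := by
  obtain ⟨k, a, b, ha, rfl⟩ := h.exists_conj_u_of_order_four hx
  rw [h.real_iff (k := k) (by rw [show k⁻¹ * (k * h.u a b * k⁻¹) * k = h.u a b by group]; exact h.u_mem_U a b)
    (fun e => by rw [e, orderOf_one] at hx; omega)]
  omega

theorem card_centralizer_four {a b : F} (ha : a ≠ 0) :
    Nat.card (Subgroup.centralizer ({h.u a b} : Set (Cfsg.Sz F m))) = 2 * 2 ^ (2 * m + 1) := by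
  classical
  have := h.finite
  have hne : h.u a b ≠ 1 := fun e => ha (h.u_injective (e.trans h.u_zero.symm)).1
  have e : ({0, a} : Set F) × F ≃ Subgroup.centralizer ({h.u a b} : Set (Cfsg.Sz F m)) :=
    Equiv.ofBijective (fun q => ⟨h.u q.1 q.2, by
      rw [Subgroup.mem_centralizer_singleton_iff, h.u_comm_iff]
      rcases q.1.2 with e | e
      · rw [e, th_zero, zero_mul, mul_zero]
      · rw [Set.mem_singleton_iff.1 e]⟩) ⟨fun p q e => by
      obtain ⟨e1, e2⟩ := h.u_injective (congrArg Subtype.val e)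
      exact Prod.ext (Subtype.ext e1) e2, fun ⟨g, hg⟩ => by
      obtain ⟨c, d, rfl⟩ := h.centralizer_u_le hne hg
      rw [Subgroup.mem_centralizer_singleton_iff, h.u_comm_iff] at hg
      refine ⟨(⟨c, ?_⟩, d), rfl⟩
      rcases eq_or_ne c 0 with hc | hc
      · exact Or.inl hc
      refine Or.inr ?_
      have hta := th_ne_zero (m := m) ha
      have h1 : th m (c / a) = c / a := by
        rw [th_div, div_eq_div_iff hta ha]; linear_combination hg
      rcases h.th_eq_self h1 with e | e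
      · exact absurd ((div_eq_zero_iff.1 e).resolve_right ha) hc
      · exact (div_eq_one_iff_eq ha).1 e⟩
  rw [← Nat.card_congr e, Nat.card_prod, h.card, Nat.card_coe_set_eq, Set.ncard_pair ha.symm]

theorem ncard_conj_four {g x : Cfsg.Sz F m} (hg : g ≠ 1) (hgo : Odd (orderOf g)) (hx : orderOf x = 4)
    (hN : Nat.card (norOf g) = 4 * Nat.card (cenOf g)) :
    {w | w ∈ norOf g ∧ IsConj x w}.ncard = Nat.card (cenOf g) := by
  have := h.finite_group
  have hord : ∀ {y w : Cfsg.Sz F m}, IsConj y w → orderOf w = orderOf y := fun {y w} hc => by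
    obtain ⟨c, rfl⟩ := isConj_iff.1 hc
    rw [show c * y * c⁻¹ = MulAut.conj c y by simp, MulEquiv.orderOf_eq]
  have he : {w | w ∈ norOf g ∧ orderOf w = 4} =
      {w | w ∈ norOf g ∧ IsConj x w} ∪ (·⁻¹) '' {w | w ∈ norOf g ∧ IsConj x w} := by
    ext w
    constructor
    · rintro ⟨hw, hwo⟩
      rcases h.classes_order_four hx hwo with h1 | h1
      · exact Or.inl ⟨hw, h1⟩
      · refine Or.inr ⟨w⁻¹, ⟨inv_mem hw, ?_⟩, inv_inv w⟩
        obtain ⟨c, rfl⟩ := isConj_iff.1 h1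
        exact isConj_iff.2 ⟨c, by group⟩
    · rintro (⟨hw, hc⟩ | ⟨v, ⟨hv, hc⟩, rfl⟩)
      · exact ⟨hw, (hord hc).trans hx⟩
      · exact ⟨inv_mem hv, by show orderOf v⁻¹ = 4; rw [orderOf_inv, hord hc, hx]⟩
  have hd : Disjoint {w | w ∈ norOf g ∧ IsConj x w} ((·⁻¹) '' {w | w ∈ norOf g ∧ IsConj x w}) := by
    rw [Set.disjoint_left]
    rintro _ ⟨-, hc⟩ ⟨v, ⟨-, hc'⟩, rfl⟩
    refine h.not_isConj_inv hx ?_
    obtain ⟨c, rfl⟩ := isConj_iff.1 hc'
    refine hc.trans (isConj_iff.2 ⟨c⁻¹, ?_⟩)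
    show c⁻¹ * (c * x * c⁻¹)⁻¹ * c⁻¹⁻¹ = x⁻¹
    group
  have h1 := congrArg Set.ncard he
  rw [Set.ncard_union_eq hd, Set.ncard_image_of_injective _ inv_injective, h.ncard_order_four hg hgo hN] at h1
  omega

theorem ncard_conj_two {g : Cfsg.Sz F m} (hg : g ≠ 1) (hgo : Odd (orderOf g)) :
    {w | w ∈ norOf g ∧ IsConj (h.u 0 1) w}.ncard = Nat.card (cenOf g) := by
  rw [← h.ncard_involutions hg hgo]
  congr 1
  ext w
  refine ⟨fun ⟨hw, hc⟩ => ⟨hw, ?_⟩, fun ⟨hw, hwo⟩ => ⟨hw, h.isConj_involution hwo⟩⟩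
  obtain ⟨c, rfl⟩ := isConj_iff.1 hc
  rw [show c * h.u 0 1 * c⁻¹ = MulAut.conj c (h.u 0 1) by simp, MulEquiv.orderOf_eq, h.orderOf_z one_ne_zero]

theorem sol_count_involution (hp : (2 * m + 1).Prime) {x : Cfsg.Sz F m} (hx : orderOf x = 2) :
    (sol x).ncard = (2 ^ (2 * m + 1)) ^ 2 * (4 * 2 ^ (2 * m + 1) - 3) := by
  have := h.finite_group
  obtain ⟨c, rfl⟩ := isConj_iff.1 (h.isConj_involution hx)
  rw [show c * h.u 0 1 * c⁻¹ = MulAut.conj c (h.u 0 1) by simp, ncard_sol_map]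
  obtain ⟨r₀, r₁, r₂, hr₀, hr₁, hr₂, hall⟩ := h.three_reps
  rw [h.ncard_sol_two hp (h.u_mem_U 0 1) (Or.inl (h.orderOf_z one_ne_zero)) hr₀ hr₁ hr₂ hall]
  have key : ∀ {r : Cfsg.Sz F m} {e : ℕ}, r ≠ 1 → Odd (orderOf r) → Nat.card (norOf r) = e * Nat.card (cenOf r) →
      (orbS r (h.u 0 1)).ncard * (e * (Nat.card (cenOf r) - 1)) =
        (2 ^ (2 * m + 1)) ^ 2 * (Nat.card (cenOf r) - 1) := by
    intro r e hr hro hN
    have h1 := count_orbit (cenOf r) (h.u 0 1)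
    rw [h.centralizer_z one_ne_zero, h.card_U, h.ncard_conj_two hr hro] at h1
    change (orbS r (h.u 0 1)).ncard * Nat.card (norOf r) = _ at h1
    rw [hN, ← mul_assoc] at h1
    rw [← mul_assoc, Nat.eq_of_mul_eq_mul_right Nat.card_pos h1]
  rw [key hr₀.1 hr₀.2.1 hr₀.2.2.2, key hr₁.1 hr₁.2.1 hr₁.2.2.2, key hr₂.1 hr₂.2.1 hr₂.2.2.2,
    hr₀.2.2.1, hr₁.2.2.1, hr₂.2.2.1, ← Nat.mul_add, ← Nat.mul_add, ← Nat.mul_add]
  congr 1
  have := Nat.pow_le_pow_right (show 0 < 2 by norm_num) (show 3 ≤ 2 * m + 1 by have := h.one_le; omega)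
  have : 2 ^ (m + 1) ≤ 2 ^ (2 * m + 1) := Nat.pow_le_pow_right (by norm_num) (by omega)
  generalize 2 ^ (2 * m + 1) = q, 2 ^ (m + 1) = r at *
  omega

theorem sol_count_four (hp : (2 * m + 1).Prime) {x : Cfsg.Sz F m} (hx : orderOf x = 4) :
    (sol x).ncard = (2 ^ (2 * m + 1)) ^ 2 * (2 ^ (2 * m + 1) + 3) := by
  have := h.finite_group
  obtain ⟨k, a, b, ha, rfl⟩ := h.exists_conj_u_of_order_four hx
  rw [show k * h.u a b * k⁻¹ = MulAut.conj k (h.u a b) by simp, ncard_sol_map]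
  have hx' : orderOf (h.u a b) = 4 := h.orderOf_u ha
  obtain ⟨r₀, r₁, r₂, hr₀, hr₁, hr₂, hall⟩ := h.three_reps
  rw [h.ncard_sol_two hp (h.u_mem_U a b) (Or.inr hx') hr₀ hr₁ hr₂ hall]
  have h0 : (orbS r₀ (h.u a b)).ncard = 0 := by
    rw [Set.ncard_eq_zero]
    refine Set.eq_empty_iff_forall_notMem.2 fun V hV => ?_
    obtain ⟨g, hg, hgo, rfl, hc, hN, hxg⟩ := h.orbS_spec hr₀.1 hr₀.2.1 hr₀.2.2.2 hV
    have h1 := Subgroup.orderOf_dvd_natCard _ hxg
    change orderOf (h.u a b) ∣ Nat.card (norOf g) at h1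
    rw [hx', hN] at h1
    exact (h.odd_card_cenOf hg hgo).not_two_dvd_nat
      (Nat.dvd_of_mul_dvd_mul_left (k := 2) (by norm_num) (show 2 * 2 ∣ 2 * Nat.card (cenOf g) from h1))
  have key : ∀ {r : Cfsg.Sz F m}, r ≠ 1 → Odd (orderOf r) → Nat.card (norOf r) = 4 * Nat.card (cenOf r) →
      (orbS r (h.u a b)).ncard * (4 * (Nat.card (cenOf r) - 1)) =
        2 * 2 ^ (2 * m + 1) * (Nat.card (cenOf r) - 1) := by
    intro r hr hro hN
    have h1 := count_orbit (cenOf r) (h.u a b)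
    rw [h.card_centralizer_four ha, h.ncard_conj_four hr hro hx' hN] at h1
    change (orbS r (h.u a b)).ncard * Nat.card (norOf r) = _ at h1
    rw [hN, ← mul_assoc] at h1
    rw [← mul_assoc, Nat.eq_of_mul_eq_mul_right Nat.card_pos h1]
  rw [h0, key hr₁.1 hr₁.2.1 hr₁.2.2.2, key hr₂.1 hr₂.2.1 hr₂.2.2.2, hr₁.2.2.1, hr₂.2.2.1, zero_mul, add_zero]
  have := Nat.pow_le_pow_right (show 0 < 2 by norm_num) (show 3 ≤ 2 * m + 1 by have := h.one_le; omega)
  have : 2 ^ (m + 1) ≤ 2 ^ (2 * m + 1) := Nat.pow_le_pow_right (by norm_num) (by omega)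
  generalize 2 ^ (2 * m + 1) = q, 2 ^ (m + 1) = r at *
  rw [add_assoc, ← Nat.mul_add, show (q + r + 1 - 1) + (q - r + 1 - 1) = 2 * q by omega]
  obtain ⟨j, rfl⟩ : ∃ j, q = j + 1 := ⟨q - 1, by omega⟩
  rw [Nat.add_sub_cancel]
  ring

theorem mem_norOf_cases_odd {g x : Cfsg.Sz F m} (hg : g ≠ 1) (hgo : Odd (orderOf g)) (hx1 : x ≠ 1)
    (hxo : Odd (orderOf x)) (hx : x ∈ norOf g) : norOf g = norOf x := by
  show Subgroup.normalizer _ = Subgroup.normalizer _
  rw [h.cenOf_eq hg hgo (h.mem_cenOf_of_odd hg hgo hx hxo) hx1]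

theorem sol_count_split (hp : (2 * m + 1).Prime) {t : Fˣ} (ht : t ≠ 1) :
    (sol (h.d t)).ncard = 2 * (2 ^ (2 * m + 1)) ^ 2 * (2 ^ (2 * m + 1) - 1) := by
  classical
  have := h.finite_group
  have hodd : Odd (orderOf (h.d t)) :=
    Odd.of_dvd_nat (h.card_units ▸ h.card_units_odd) (h.orderOf_dvd_of_conj_H (k := 1) (by simpa using h.d_mem_H t))
  set B₁ := MulAction.stabilizer (Cfsg.Sz F m) (oInf F m) with hB₁
  set B₂ := MulAction.stabilizer (Cfsg.Sz F m) (oPt m (0 : F) 0) with hB₂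
  have hW : ∀ s, (h.w * h.d s) • oInf F m = oPt m (0 : F) 0 ∧ (h.w * h.d s) • oPt m (0 : F) 0 = oInf F m := fun s =>
    ⟨by rw [mul_smul, h.d_smul_inf, h.w_smul_inf], by rw [mul_smul, h.d_smul_zero, h.w_smul_zero]⟩
  have hnor : norOf (h.d t) = Subgroup.normalizer (h.H : Set (Cfsg.Sz F m)) := by
    simp only [norOf, cenOf, h.centralizer_d ht]
  have hwN : h.w ∈ Subgroup.normalizer (h.H : Set (Cfsg.Sz F m)) := by
    rw [Subgroup.mem_normalizer_iff]
    intro y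
    constructor
    · rintro ⟨s, rfl⟩
      exact ⟨s⁻¹, by rw [dG_apply, dG_apply, h.w_inv, h.w_d]⟩
    · rintro ⟨s, hs⟩
      refine ⟨s⁻¹, ?_⟩
      rw [dG_apply] at hs ⊢
      rw [← h.w_d, hs, h.w_inv, ← mul_assoc, ← mul_assoc, h.w_mul_self, one_mul, mul_assoc, h.w_mul_self, mul_one]
  have hsol : sol (h.d t) = ((B₁ : Set (Cfsg.Sz F m)) ∪ (B₂ : Set (Cfsg.Sz F m))) ∪ Set.range (fun s => h.w * h.d s) := by
    ext y
    rw [h.mem_sol_iff hp]
    constructor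
    · rintro (⟨p, hp1, hp2⟩ | ⟨g, hg, hgo, hxg, hyg⟩)
      · rcases h.d_fix_cases ht hp1 with rfl | rfl
        · exact Or.inl (Or.inl hp2)
        · exact Or.inl (Or.inr hp2)
      · rw [h.mem_norOf_cases_odd hg hgo (h.d_ne_one ht) hodd hxg, hnor] at hyg
        obtain ⟨s, rfl | rfl⟩ := h.H_normalizer_cases hyg
        · exact Or.inl (Or.inl (h.d_smul_inf s))
        · exact Or.inr ⟨s, rfl⟩
    · rintro ((hy | hy) | ⟨s, rfl⟩)
      · exact Or.inl ⟨_, h.d_smul_inf t, hy⟩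
      · exact Or.inl ⟨_, h.d_smul_zero t, hy⟩
      · refine Or.inr ⟨h.d t, h.d_ne_one ht, hodd, Subgroup.le_normalizer ?_, ?_⟩
        · exact Subgroup.mem_centralizer_singleton_iff.2 rfl
        · show h.w * h.d s ∈ norOf (h.d t)
          rw [hnor]
          exact mul_mem hwN (Subgroup.le_normalizer (h.d_mem_H s))
  have hd : Disjoint ((B₁ : Set (Cfsg.Sz F m)) ∪ (B₂ : Set (Cfsg.Sz F m))) (Set.range fun s => h.w * h.d s) := by
    rw [Set.disjoint_left]
    rintro _ (hy | hy) ⟨s, rfl⟩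
    · exact oPt_ne_oInf (0 : F) 0 ((hW s).1.symm.trans hy)
    · exact oPt_ne_oInf (0 : F) 0 ((hW s).2.symm.trans hy).symm
  rw [hsol, Set.ncard_union_eq hd, Set.ncard_range_of_injective (fun s s' e => h.d_injective (mul_left_cancel e)),
    h.card_units]
  have hint : ((B₁ : Set (Cfsg.Sz F m)) ∩ B₂).ncard = 2 ^ (2 * m + 1) - 1 := by
    rw [show (B₁ : Set (Cfsg.Sz F m)) ∩ B₂ = Set.range h.d from ?_,
      Set.ncard_range_of_injective (fun s s' e => h.d_injective e), h.card_units]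
    ext y
    constructor
    · rintro ⟨h1, h2⟩
      obtain ⟨s, rfl⟩ := h.mem_d_of_fix h1 h2
      exact ⟨s, rfl⟩
    · rintro ⟨s, rfl⟩; exact ⟨h.d_smul_inf s, h.d_smul_zero s⟩
  have h2 : (B₂ : Set (Cfsg.Sz F m)).ncard = (2 ^ (2 * m + 1)) ^ 2 * (2 ^ (2 * m + 1) - 1) := by
    rw [← Nat.card_coe_set_eq]
    show Nat.card B₂ = _
    rw [hB₂, ← h.w_smul_inf, MulAction.stabilizer_smul_eq_stabilizer_map_conj,
      Subgroup.card_map_of_injective (MulAut.conj h.w).injective, h.card_stabilizer_inf]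
  have h1 : (B₁ : Set (Cfsg.Sz F m)).ncard = (2 ^ (2 * m + 1)) ^ 2 * (2 ^ (2 * m + 1) - 1) := by
    rw [← Nat.card_coe_set_eq]; exact h.card_stabilizer_inf
  have h3 := Set.ncard_union_add_ncard_inter (B₁ : Set (Cfsg.Sz F m)) (B₂ : Set (Cfsg.Sz F m))
  rw [hint, h1, h2] at h3
  rw [mul_assoc 2]
  omega

theorem sol_count_free (hp : (2 * m + 1).Prime) {x : Cfsg.Sz F m} (hx : x ∈ freeSet F m) :
    (sol x).ncard = 4 * Nat.card (cenOf x) := by
  have := h.finite_group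
  have hxo : Odd (orderOf x) := (qq_odd m).of_dvd_nat (h.orderOf_dvd_qq hx.1 hx.2)
  rw [show sol x = (norOf x : Set (Cfsg.Sz F m)) from ?_, ← Nat.card_coe_set_eq]
  · exact h.card_normalizer_tor hx
  ext y
  rw [h.mem_sol_iff hp]
  constructor
  · rintro (⟨p, hp1, -⟩ | ⟨g, hg, hgo, hxg, hyg⟩)
    · exact absurd hp1 (hx.2 p)
    · rwa [h.mem_norOf_cases_odd hg hgo hx.1 hxo hxg] at hyg
  · exact fun hy => Or.inr ⟨x, hx.1, hxo, Subgroup.le_normalizer (Subgroup.mem_centralizer_singleton_iff.2 rfl), hy⟩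

theorem exists_conj_d_of_dvd {x : Cfsg.Sz F m} (hx : x ≠ 1) (hd : orderOf x ∣ 2 ^ (2 * m + 1) - 1) :
    ∃ k t, t ≠ 1 ∧ x = k * h.d t * k⁻¹ := by
  rcases h.trichotomy hx with ⟨k, a, b, rfl, hne⟩ | ⟨k, t, rfl, ht⟩ | hfree
  · exfalso
    have h4 : orderOf (k * h.u a b * k⁻¹) ∣ 4 :=
      h.orderOf_dvd_of_conj_U (k := k) (by
        rw [show k⁻¹ * (k * h.u a b * k⁻¹) * k = h.u a b by group]; exact h.u_mem_U a b)
    exact hx (orderOf_eq_one_iff.1 (Nat.eq_one_of_dvd_coprimes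
      ((Nat.coprime_two_left.2 (h.card_units ▸ h.card_units_odd)).pow_left 2) h4 hd))
  · exact ⟨k, t, ht, rfl⟩
  · exfalso
    obtain ⟨c1, c2, -, c4⟩ := h.coprime_three
    exact hx (orderOf_eq_one_iff.1 (Nat.eq_one_of_dvd_coprimes (c4 ▸ c1.mul_right c2) hd (h.orderOf_dvd_qq hx hfree)))

theorem free_of_dvd_torus {x : Cfsg.Sz F m} (hx : x ≠ 1) {t : ℕ}
    (ht : t = 2 ^ (2 * m + 1) + 2 ^ (m + 1) + 1 ∨ t = 2 ^ (2 * m + 1) - 2 ^ (m + 1) + 1) (hd : orderOf x ∣ t) :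
    x ∈ freeSet F m ∧ Nat.card (cenOf x) = t := by
  have := h.finite_group
  obtain ⟨c1, c2, c3, c4⟩ := h.coprime_three
  have hdq : orderOf x ∣ qq m := by
    rw [← c4]
    rcases ht with rfl | rfl
    · exact hd.mul_right _
    · exact hd.mul_left _
  refine ⟨⟨hx, h.fixed_free_of_dvd hx hdq⟩, ?_⟩
  have hc := h.centralizer_card_mem hx ((qq_odd m).of_dvd_nat hdq)
  have hd' : orderOf x ∣ Nat.card (cenOf x) :=
    Subgroup.orderOf_dvd_natCard _ (Subgroup.mem_centralizer_singleton_iff.2 rfl)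
  simp only [Set.mem_insert_iff, Set.mem_singleton_iff] at hc
  by_contra hne
  refine hx (orderOf_eq_one_iff.1 (Nat.eq_one_of_dvd_coprimes ?_ hd' hd))
  rcases hc with e | e | e <;> rcases ht with e' | e' <;> rw [cenOf, e, e']
  · exact c1
  · exact c2
  · exact absurd (e.trans e'.symm) hne
  · exact c3
  · exact c3.symm
  · exact absurd (e.trans e'.symm) hne

end Hyp

end CfsgLib.Suzuki
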