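import Cfsg.Agent.Lib.Suzuki.NormTor

/-!
Binary coset actions: general criteria, and the actions on cosets of a Sylow centre.
-/

set_option autoImplicit false

namespace CfsgLib.Suzuki

open scoped Pointwise

section Generic

variable {G : Type*} [Group G]

/-- The action on the cosets of `H` is binary, in terms of representatives. -/
def BinRep (H : Subgroup G) : Prop :=
  ∀ (n : ℕ) (a b : Fin n → G), 2 ≤ n →
    (∀ i j, i ≠ j → ∃ g, (b i)⁻¹ * g * a i ∈ H ∧ (b j)⁻¹ * g * a j ∈ H) → ∃ g, ∀ i, (b i)⁻¹ * g * a i ∈ H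

theorem smul_mk_eq_iff {H : Subgroup G} (g a b : G) :
    g • (QuotientGroup.mk a : G ⧸ H) = QuotientGroup.mk b ↔ b⁻¹ * g * a ∈ H := by
  show (QuotientGroup.mk (g * a) : G ⧸ H) = QuotientGroup.mk b ↔ _
  rw [eq_comm, QuotientGroup.eq, mul_assoc]

theorem binRep_iff (H : Subgroup G) :
    BinRep H ↔ ∀ (n : ℕ) (I J : Fin n → G ⧸ H), 2 ≤ n →
      (∀ i j : Fin n, i ≠ j → ∃ g : G, g • I i = J i ∧ g • I j = J j) → ∃ g : G, ∀ i, g • I i = J i := by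
  constructor
  · intro hb n I J hn hp
    choose a ha using fun i => QuotientGroup.mk_surjective (I i)
    choose b hb' using fun i => QuotientGroup.mk_surjective (J i)
    obtain ⟨g, hg⟩ := hb n a b hn fun i j hij => by
      obtain ⟨g, h1, h2⟩ := hp i j hij
      rw [← ha i, ← hb' i, smul_mk_eq_iff] at h1
      rw [← ha j, ← hb' j, smul_mk_eq_iff] at h2
      exact ⟨g, h1, h2⟩
    exact ⟨g, fun i => by rw [← ha i, ← hb' i, smul_mk_eq_iff]; exact hg i⟩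
  · intro hb n a b hn hp
    obtain ⟨g, hg⟩ := hb n (fun i => QuotientGroup.mk (a i)) (fun i => QuotientGroup.mk (b i)) hn fun i j hij => by
      obtain ⟨g, h1, h2⟩ := hp i j hij
      exact ⟨g, (smul_mk_eq_iff _ _ _).2 h1, (smul_mk_eq_iff _ _ _).2 h2⟩
    exact ⟨g, fun i => (smul_mk_eq_iff _ _ _).1 (hg i)⟩

theorem BinRep.map {G' : Type*} [Group G'] (e : G ≃* G') {H : Subgroup G} (hb : BinRep H) :
    BinRep (H.map e.toMonoidHom) := by
  intro n a b hn hp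
  have key : ∀ (g : G') (i : Fin n), (b i)⁻¹ * g * a i ∈ H.map e.toMonoidHom ↔
      (e.symm (b i))⁻¹ * e.symm g * e.symm (a i) ∈ H := by
    intro g i
    rw [Subgroup.mem_map_equiv, map_mul, map_mul, map_inv]
  obtain ⟨g, hg⟩ := hb n (fun i => e.symm (a i)) (fun i => e.symm (b i)) hn fun i j hij => by
    obtain ⟨g, h1, h2⟩ := hp i j hij
    exact ⟨e.symm g, (key g i).1 h1, (key g j).1 h2⟩
  exact ⟨e g, fun i => (key _ i).2 (by rw [e.symm_apply_apply]; exact hg i)⟩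

theorem binRep_map_iff {G' : Type*} [Group G'] (e : G ≃* G') (H : Subgroup G) :
    BinRep (H.map e.toMonoidHom) ↔ BinRep H := by
  refine ⟨fun hb => ?_, BinRep.map e⟩
  have h1 := hb.map e.symm
  rwa [Subgroup.map_map, show e.symm.toMonoidHom.comp e.toMonoidHom = MonoidHom.id G from
    MonoidHom.ext fun x => e.symm_apply_apply x, Subgroup.map_id] at h1

theorem binRep_bot : BinRep (⊥ : Subgroup G) := by
  intro n a b hn hp
  simp only [Subgroup.mem_bot] at hp ⊢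
  have hsolve : ∀ {g : G} {i : Fin n}, (b i)⁻¹ * g * a i = 1 → g = b i * (a i)⁻¹ := by
    intro g i h1
    calc g = b i * ((b i)⁻¹ * g * a i) * (a i)⁻¹ := by group
      _ = _ := by rw [h1, mul_one]
  refine ⟨b ⟨0, by omega⟩ * (a ⟨0, by omega⟩)⁻¹, fun i => ?_⟩
  rcases eq_or_ne i ⟨0, by omega⟩ with rfl | hne
  · group
  · obtain ⟨g, h1, h2⟩ := hp i ⟨0, by omega⟩ hne
    rwa [← hsolve h2]

/-- A configuration showing that an action is not binary. -/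
theorem not_binRep {H : Subgroup G} {ι : Type*} [Finite ι] (x : ι → G) (γ γ' : G)
    (hpair : ∀ i, ∃ g, (x i)⁻¹ * g * x i ∈ H ∧ γ'⁻¹ * g * γ ∈ H)
    (hno : ∀ g, (∀ i, (x i)⁻¹ * g * x i ∈ H) → γ'⁻¹ * g * γ ∉ H) : ¬ BinRep H := by
  classical
  intro hb
  have : Fintype ι := Fintype.ofFinite ι
  have hne : Nonempty ι := by
    by_contra hemp
    rw [not_nonempty_iff] at hemp
    exact hno (γ' * γ⁻¹) (fun i => isEmptyElim i)
      (by rw [show γ'⁻¹ * (γ' * γ⁻¹) * γ = 1 by group]; exact one_mem H)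
  let e := Fintype.equivFin (Option ι)
  obtain ⟨g, hg⟩ := hb (Fintype.card (Option ι)) (fun k => (e.symm k).elim γ x) (fun k => (e.symm k).elim γ' x)
    (by rw [Fintype.card_option]; have := Fintype.card_pos (α := ι); omega) fun i j hij => by
      have hij' : e.symm i ≠ e.symm j := fun h1 => hij (e.symm.injective h1)
      rcases hi : e.symm i with _ | i' <;> rcases hj : e.symm j with _ | j'
      · exact absurd (hi.trans hj.symm) hij'
      · obtain ⟨g, h1, h2⟩ := hpair j'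
        exact ⟨g, by simpa [hi] using h2, by simpa [hj] using h1⟩
      · obtain ⟨g, h1, h2⟩ := hpair i'
        exact ⟨g, by simpa [hi] using h1, by simpa [hj] using h2⟩
      · exact ⟨1, by simp [one_mem], by simp [one_mem]⟩
  refine hno g (fun i => ?_) ?_
  · simpa using hg (e (some i))
  · simpa using hg (e none)

/-- The triangle criterion: `a = b * c` in three conjugates, the first two meeting trivially. -/
theorem not_binRep_triangle {H : Subgroup G} (xa xb xc a b : G) (ha : xa⁻¹ * a * xa ∈ H) (hb : xb⁻¹ * b * xb ∈ H)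
    (hc : xc⁻¹ * (b⁻¹ * a) * xc ∈ H) (hab : ∀ g, xa⁻¹ * g * xa ∈ H → xb⁻¹ * g * xb ∈ H → g = 1)
    (hac : xc⁻¹ * a * xc ∉ H) : ¬ BinRep H := by
  refine not_binRep (fun i : Bool => cond i xa xb) xc (a * xc) ?_ ?_
  · rintro (_ | _)
    · refine ⟨b, hb, ?_⟩
      have := inv_mem hc
      rwa [show (xc⁻¹ * (b⁻¹ * a) * xc)⁻¹ = (a * xc)⁻¹ * b * xc by group] at this
    · exact ⟨a, ha, by rw [show (a * xc)⁻¹ * a * xc = 1 by group]; exact one_mem H⟩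
  · intro g hg hg'
    have hg1 : g = 1 := hab g (hg true) (hg false)
    subst hg1
    have := inv_mem hg'
    rw [show ((a * xc)⁻¹ * 1 * xc)⁻¹ = xc⁻¹ * a * xc by group] at this
    exact hac this

end Generic

variable {F : Type*} [Field F] {m : ℕ}

namespace Hyp

variable (h : Hyp F m)
include h

theorem Z_fix {v : Cfsg.Sz F m} (hv : v ∈ h.Z) : v • oInf F m = oInf F m := h.mem_U_fix (h.Z_le_U hv)

theorem sq_eq_one_of_mem_Z {v : Cfsg.Sz F m} (hv : v ∈ h.Z) : v * v = 1 := by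
  obtain ⟨b, rfl⟩ := hv
  rw [h.u_sq, th_zero, zero_mul, h.u_zero]

theorem eq_one_of_fix_of_mem_U {v : Cfsg.Sz F m} (hv : v ∈ h.U) {p : Cfsg.suzukiOvoid F m} (hp : v • p = p)
    (hne : p ≠ oInf F m) : v = 1 := by
  by_contra hv1
  obtain ⟨a, b, rfl⟩ := hv
  exact hne (h.u_fix hv1 hp)

/-- A conjugate of a root element fixes only its base point. -/
theorem conj_U_fix {k v : Cfsg.Sz F m} (hv : k⁻¹ * v * k ∈ h.U) {p : Cfsg.suzukiOvoid F m} (hp : v • p = p)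
    (hv1 : v ≠ 1) : p = k • oInf F m := by
  by_contra hne
  refine hv1 (conj'_eq_one (h.eq_one_of_fix_of_mem_U hv (p := k⁻¹ • p) ?_ fun e => hne ?_))
  · rw [mul_smul, mul_smul, smul_inv_smul, hp]
  · rw [← e, smul_inv_smul]

theorem Z_conj_mem {g v : Cfsg.Sz F m} (hg : g • oInf F m = oInf F m) (hv : v ∈ h.Z) : g⁻¹ * v * g ∈ h.Z := by
  obtain ⟨b, rfl⟩ := hv
  obtain ⟨p, q, t, rfl⟩ := h.eq_u_mul_d hg
  rw [show (h.u p q * h.d t)⁻¹ * h.u 0 b * (h.u p q * h.d t) =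
    (h.d t)⁻¹ * ((h.u p q)⁻¹ * (h.u 0 b * h.u p q)) * (h.d t)⁻¹⁻¹ by group,
    ← (h.u_comm_iff p q 0 b).2 (by simp), inv_mul_cancel_left, h.d_inv, h.d_u, mul_zero]
  exact ⟨_, rfl⟩

/-- No product of two involutions from two Sylow centres lies in a third. -/
theorem three_centres {k₁ k₂ k₃ v₁ v₂ v₃ : Cfsg.Sz F m} (h1 : k₁⁻¹ * v₁ * k₁ ∈ h.Z) (h2 : k₂⁻¹ * v₂ * k₂ ∈ h.Z)
    (h3 : k₃⁻¹ * v₃ * k₃ ∈ h.Z) (n12 : k₁ • oInf F m ≠ k₂ • oInf F m) (n13 : k₁ • oInf F m ≠ k₃ • oInf F m)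
    (n23 : k₂ • oInf F m ≠ k₃ • oInf F m) (e : v₁ = v₂ * v₃) : v₁ = 1 := by
  by_contra hv1
  have hfix : ∀ {k v : Cfsg.Sz F m}, k⁻¹ * v * k ∈ h.Z → v • (k • oInf F m) = k • oInf F m := fun {k v} hk =>
    h.fix_of_conj_mem_U (h.Z_le_U hk)
  have hsq : ∀ {k v : Cfsg.Sz F m}, k⁻¹ * v * k ∈ h.Z → v * v = 1 := fun {k v} hk => by
    refine conj'_eq_one (k := k) ?_
    have := h.sq_eq_one_of_mem_Z hk
    rwa [show k⁻¹ * v * k * (k⁻¹ * v * k) = k⁻¹ * (v * v) * k by group] at this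
  rcases eq_or_ne v₂ 1 with hv2 | hv2
  · rw [hv2, one_mul] at e
    exact n13 (h.conj_U_fix (h.Z_le_U h3) (e ▸ hfix h1) (e ▸ hv1))
  rcases eq_or_ne v₃ 1 with hv3 | hv3
  · rw [hv3, mul_one] at e
    exact n12 (h.conj_U_fix (h.Z_le_U h2) (e ▸ hfix h1) (e ▸ hv1))
  have hcomm : v₃ * v₂ = v₂ * v₃ := by
    have h0 := hsq h1
    rw [e] at h0
    calc v₃ * v₂ = (v₂ * v₂) * (v₃ * v₂) * (v₃ * v₃) := by rw [hsq h2, hsq h3, one_mul, mul_one]
      _ = v₂ * (v₂ * v₃ * (v₂ * v₃)) * v₃ := by group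
      _ = v₂ * v₃ := by rw [h0, mul_one]
  have hf2 : v₂ • (v₃ • (k₂ • oInf F m)) = v₃ • (k₂ • oInf F m) := by
    rw [smul_smul, ← hcomm, mul_smul, hfix h2]
  have hf3 : v₃ • (k₂ • oInf F m) = k₂ • oInf F m := h.conj_U_fix (h.Z_le_U h2) hf2 hv2
  exact n23 (h.conj_U_fix (h.Z_le_U h3) hf3 hv3)

theorem Z_inter {k k' v : Cfsg.Sz F m} (h1 : k⁻¹ * v * k ∈ h.Z) (h2 : k'⁻¹ * v * k' ∈ h.Z)
    (hne : k • oInf F m ≠ k' • oInf F m) : v = 1 := by
  by_contra hv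
  exact hne (h.conj_U_fix (h.Z_le_U h2) (h.fix_of_conj_mem_U (h.Z_le_U h1)) hv)

theorem Z_move {k k' v : Cfsg.Sz F m} (hv : k⁻¹ * v * k ∈ h.Z) (he : k' • oInf F m = k • oInf F m) :
    k'⁻¹ * v * k' ∈ h.Z := by
  have := h.Z_conj_mem (g := k⁻¹ * k') (by rw [mul_smul, he, inv_smul_smul]) hv
  rwa [show (k⁻¹ * k')⁻¹ * (k⁻¹ * v * k) * (k⁻¹ * k') = k'⁻¹ * v * k' by group] at this

/-- The action on the cosets of a Sylow centre is binary. -/
theorem binRep_Z : BinRep h.Z := by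
  intro n a b hn hp
  set i₀ : Fin n := ⟨0, by omega⟩
  set b' := fun i => a i₀ * (b i₀)⁻¹ * b i with hb'
  have hconv : ∀ g i, (b i)⁻¹ * g * a i = (b' i)⁻¹ * (a i₀ * (b i₀)⁻¹ * g) * a i := by
    intro g i; simp only [hb']; group
  suffices hh : ∃ g, ∀ i, (b' i)⁻¹ * g * a i ∈ h.Z by
    obtain ⟨g, hg⟩ := hh
    refine ⟨b i₀ * (a i₀)⁻¹ * g, fun i => ?_⟩
    rw [hconv, show a i₀ * (b i₀)⁻¹ * (b i₀ * (a i₀)⁻¹ * g) = g by group]
    exact hg i
  have hp' : ∀ i j, i ≠ j → ∃ g, (b' i)⁻¹ * g * a i ∈ h.Z ∧ (b' j)⁻¹ * g * a j ∈ h.Z := by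
    intro i j hij
    obtain ⟨g, h1, h2⟩ := hp i j hij
    exact ⟨a i₀ * (b i₀)⁻¹ * g, hconv g i ▸ h1, hconv g j ▸ h2⟩
  have hb0 : b' i₀ = a i₀ := by simp only [hb']; group
  clear_value b'
  -- the base stabiliser
  have hex : ∀ i, ∃ z, (a i₀)⁻¹ * z * a i₀ ∈ h.Z ∧ (b' i)⁻¹ * z * a i ∈ h.Z := by
    intro i
    rcases eq_or_ne i i₀ with rfl | hne
    · exact ⟨1, by simp [one_mem], by rw [hb0]; simp [one_mem]⟩
    · obtain ⟨g, h1, h2⟩ := hp' i i₀ hne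
      exact ⟨g, by rwa [hb0] at h2, h1⟩
  choose z hz0 hzi using hex
  have hdiff : ∀ {i : Fin n} {g g' : Cfsg.Sz F m}, (b' i)⁻¹ * g * a i ∈ h.Z → (b' i)⁻¹ * g' * a i ∈ h.Z →
      (a i)⁻¹ * (g⁻¹ * g') * a i ∈ h.Z := by
    intro i g g' h1 h2
    have := mul_mem (inv_mem h1) h2
    rwa [show ((b' i)⁻¹ * g * a i)⁻¹ * ((b' i)⁻¹ * g' * a i) = (a i)⁻¹ * (g⁻¹ * g') * a i by group] at this
  have hshift : ∀ {i : Fin n} {g g' : Cfsg.Sz F m}, (b' i)⁻¹ * g * a i ∈ h.Z →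
      (a i)⁻¹ * (g⁻¹ * g') * a i ∈ h.Z → (b' i)⁻¹ * g' * a i ∈ h.Z := by
    intro i g g' h1 h2
    have := mul_mem h1 h2
    rwa [show (b' i)⁻¹ * g * a i * ((a i)⁻¹ * (g⁻¹ * g') * a i) = (b' i)⁻¹ * g' * a i by group] at this
  have hzdiff : ∀ i j, (a i₀)⁻¹ * ((z i)⁻¹ * z j) * a i₀ ∈ h.Z := by
    intro i j
    have := mul_mem (inv_mem (hz0 i)) (hz0 j)
    rwa [show ((a i₀)⁻¹ * z i * a i₀)⁻¹ * ((a i₀)⁻¹ * z j * a i₀) = (a i₀)⁻¹ * ((z i)⁻¹ * z j) * a i₀ by group]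
      at this
  by_cases hall : ∀ i, a i • oInf F m = a i₀ • oInf F m
  · refine ⟨1, fun i => hshift (hzi i) ?_⟩
    rw [mul_one]
    have := inv_mem (h.Z_move (hz0 i) (hall i))
    rwa [show ((a i)⁻¹ * z i * a i)⁻¹ = (a i)⁻¹ * (z i)⁻¹ * a i by group] at this
  push Not at hall
  obtain ⟨j, hj⟩ := hall
  refine ⟨z j, fun i => ?_⟩
  by_cases hi0 : a i • oInf F m = a i₀ • oInf F m
  · exact hshift (hzi i) (h.Z_move (hzdiff i j) hi0)
  suffices he : z i = z j by exact he ▸ hzi i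
  rcases eq_or_ne i j with rfl | hij
  · rfl
  obtain ⟨g, hgi, hgj⟩ := hp' i j hij
  have hs := hdiff (hzi i) hgi
  have hs' := hdiff hgj (hzi j)
  have heq : (z i)⁻¹ * z j = ((z i)⁻¹ * g) * (g⁻¹ * z j) := by group
  suffices hone : (z i)⁻¹ * z j = 1 by exact inv_mul_eq_one.1 hone
  by_cases hpij : a i • oInf F m = a j • oInf F m
  · refine h.Z_inter (hzdiff i j) (k' := a i) ?_ (fun e => hi0 e.symm)
    rw [heq, show (a i)⁻¹ * ((z i)⁻¹ * g * (g⁻¹ * z j)) * a i =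
      (a i)⁻¹ * ((z i)⁻¹ * g) * a i * ((a i)⁻¹ * (g⁻¹ * z j) * a i) by group]
    exact mul_mem hs (h.Z_move hs' hpij)
  · exact h.three_centres (hzdiff i j) hs hs' (fun e => hi0 e.symm) (fun e => hj e.symm) hpij heq

end Hyp

end CfsgLib.Suzuki
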