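import Cfsg.Agent.Lib.Suzuki.BinaryOdd
import Cfsg.Agent.Lib.Suzuki.SolCounts

/-!
Actions on the cosets of a subgroup of even order, other than a Sylow centre, are not binary.
-/

set_option autoImplicit false

namespace CfsgLib.Suzuki

open scoped Pointwise

variable {F : Type*} [Field F] {m : ℕ}

namespace Hyp

variable (h : Hyp F m)
include h

/-- The scaled pairings cover `F` up to a translate. -/
theorem pairing_cover (b : F) : ∃ c, b = th m c + c ∨ b = th m c + c + 1 := by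
  classical
  have := h.finite
  set f : F → F := fun c => th m c + c with hf
  have hfib : ∀ a ∈ (Set.univ : Set F), {x | x ∈ (Set.univ : Set F) ∧ f x = f a}.ncard = 2 := by
    intro a _
    rw [show {x | x ∈ (Set.univ : Set F) ∧ f x = f a} = {a, a + 1} from ?_, Set.ncard_pair]
    · intro e; exact one_ne_zero (α := F) (by linear_combination -e)
    ext x
    simp only [Set.mem_univ, true_and, Set.mem_setOf_eq, Set.mem_insert_iff, Set.mem_singleton_iff, hf]
    constructor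
    · intro e
      have h1 : th m (x + a) = x + a := by
        rw [h.th_add]; linear_combination e + (th m a - x) * h.two_eq_zero
      rcases h.th_eq_self h1 with e1 | e1
      · exact Or.inl (h.add_eq_zero_iff.1 e1)
      · exact Or.inr (by linear_combination e1 - a * h.two_eq_zero)
    · rintro (rfl | rfl)
      · rfl
      · rw [h.th_add, th_one]; linear_combination h.two_eq_zero
  have hcard := ncard_eq_mul_fibers Set.univ f 2 hfib
  rw [Set.image_univ, Set.ncard_univ] at hcard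
  have hne : ∀ c, f c ≠ 1 := by
    intro c hc
    have h1 : th m (th m c) + th m c = 1 := by
      rw [← h.th_add, show th m c + c = 1 from hc, th_one]
    rw [h.th_th] at h1
    have h2 : c * (c + 1) = 0 := by
      have hc' : th m c + c = 1 := hc
      linear_combination h1 - hc' + c * h.two_eq_zero
    rcases mul_eq_zero.1 h2 with e | e
    · rw [e] at hc; simp [hf] at hc
    · rw [h.add_eq_zero_iff] at e; rw [e] at hc
      simp only [hf, th_one, h.add_self] at hc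
      exact zero_ne_one hc
  have hdisj : Disjoint (Set.range f) ((· + 1) '' Set.range f) := by
    rw [Set.disjoint_left]
    rintro _ ⟨c, rfl⟩ ⟨_, ⟨d, rfl⟩, e⟩
    refine hne (c + d) ?_
    simp only [hf] at e ⊢
    rw [h.th_add]
    linear_combination -e + (th m d + d) * h.two_eq_zero
  have hall : Set.range f ∪ (· + 1) '' Set.range f = Set.univ := by
    refine Set.eq_of_subset_of_ncard_le (Set.subset_univ _) ?_
    rw [Set.ncard_univ, Set.ncard_union_eq hdisj, Set.ncard_image_of_injective _ (add_left_injective 1), hcard, two_mul]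
  rcases (hall.ge (Set.mem_univ b) : b ∈ Set.range f ∪ (· + 1) '' Set.range f) with ⟨c, rfl⟩ | ⟨_, ⟨c, rfl⟩, rfl⟩
  · exact ⟨c, Or.inl rfl⟩
  · exact ⟨c, Or.inr rfl⟩

/-- The largest subgroup of `H` normalised by `U`. -/
def coreU (H : Subgroup (Cfsg.Sz F m)) : Subgroup (Cfsg.Sz F m) where
  carrier := {g | ∀ v ∈ h.U, v⁻¹ * g * v ∈ H}
  one_mem' v _ := by simp [one_mem]
  mul_mem' {x y} hx hy v hv := by
    rw [show v⁻¹ * (x * y) * v = v⁻¹ * x * v * (v⁻¹ * y * v) by group]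
    exact mul_mem (hx v hv) (hy v hv)
  inv_mem' {x} hx v hv := by
    rw [show v⁻¹ * x⁻¹ * v = (v⁻¹ * x * v)⁻¹ by group]
    exact inv_mem (hx v hv)

theorem coreU_le (H : Subgroup (Cfsg.Sz F m)) : h.coreU H ≤ H := fun g hg => by
  simpa using hg 1 (one_mem _)

theorem coreU_conj {H : Subgroup (Cfsg.Sz F m)} {g v : Cfsg.Sz F m} (hg : g ∈ h.coreU H) (hv : v ∈ h.U) :
    v * g * v⁻¹ ∈ h.coreU H := fun w hw => by
  rw [show w⁻¹ * (v * g * v⁻¹) * w = (v⁻¹ * w)⁻¹ * g * (v⁻¹ * w) by group]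
  exact hg _ (mul_mem (inv_mem hv) hw)

theorem coreU_fix {H : Subgroup (Cfsg.Sz F m)} (hH : H ≠ ⊤) {g : Cfsg.Sz F m} (hg : g ∈ h.coreU H) :
    g • oInf F m = oInf F m := by
  by_contra hmove
  have := h.isSimpleGroup
  set C := h.coreU H
  have hUN : h.U ≤ Subgroup.normalizer (C : Set (Cfsg.Sz F m)) := by
    intro v hv
    rw [Subgroup.mem_normalizer_iff]
    refine fun y => ⟨fun hy => h.coreU_conj hy hv, fun hy => ?_⟩
    have := h.coreU_conj hy (inv_mem hv)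
    rwa [inv_inv, show v⁻¹ * (v * y * v⁻¹) * v = y by group] at this
  by_cases htop : Subgroup.normalizer (C : Set (Cfsg.Sz F m)) = ⊤
  · rcases (Subgroup.normalizer_eq_top_iff.1 htop).eq_bot_or_eq_top with e | e
    · rw [e, Subgroup.mem_bot] at hg
      exact hmove (by rw [hg, one_smul])
    · exact hH (top_le_iff.1 (e ▸ h.coreU_le H))
  · exact hmove (h.le_stabilizer_of_U_le htop hUN (Subgroup.le_normalizer hg))

theorem coreU_le_U {H : Subgroup (Cfsg.Sz F m)} (hH : H ≠ ⊤) (hU : ¬ h.U ≤ H) {g : Cfsg.Sz F m}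
    (hg : g ∈ h.coreU H) : g ∈ h.U := by
  classical
  have := h.finite_group
  obtain ⟨a, b, t, rfl⟩ := h.eq_u_mul_d (h.coreU_fix hH hg)
  suffices ht : t = 1 by rw [ht, h.d_one, mul_one]; exact h.u_mem_U a b
  by_contra ht
  obtain ⟨x, y, hxy⟩ := h.exists_conj_d a b ht
  have hd : h.d t ∈ h.coreU H := by
    have := h.coreU_conj hg (inv_mem (h.u_mem_U x y))
    rwa [inv_inv, hxy] at this
  apply hU
  -- commutators with the torus element cover the root group
  have hmem : ∀ v : h.U, ((v : Cfsg.Sz F m) * h.d t * (v : Cfsg.Sz F m)⁻¹ * (h.d t)⁻¹) ∈ h.U := fun v => by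
    rw [show (v : Cfsg.Sz F m) * h.d t * (v : Cfsg.Sz F m)⁻¹ * (h.d t)⁻¹ =
      v * (h.d t * (v : Cfsg.Sz F m)⁻¹ * (h.d t)⁻¹) by group]
    exact mul_mem v.2 (h.conj_mem_U (h.d_smul_inf t) (inv_mem v.2))
  let φ : h.U → h.U := fun v => ⟨_, hmem v⟩
  have hinj : Function.Injective φ := by
    intro v w e
    have e' := congrArg Subtype.val e
    simp only [φ] at e'
    have hc : (w : Cfsg.Sz F m)⁻¹ * v ∈ Subgroup.centralizer ({h.d t} : Set (Cfsg.Sz F m)) := by
      rw [Subgroup.mem_centralizer_singleton_iff]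
      calc (w : Cfsg.Sz F m)⁻¹ * v * h.d t
          = (w : Cfsg.Sz F m)⁻¹ * ((v : Cfsg.Sz F m) * h.d t * (v : Cfsg.Sz F m)⁻¹ * (h.d t)⁻¹) * (h.d t * v) := by group
        _ = (w : Cfsg.Sz F m)⁻¹ * ((w : Cfsg.Sz F m) * h.d t * (w : Cfsg.Sz F m)⁻¹ * (h.d t)⁻¹) * (h.d t * v) := by rw [e']
        _ = h.d t * ((w : Cfsg.Sz F m)⁻¹ * v) := by group
    rw [h.centralizer_d ht] at hc
    obtain ⟨s, hs⟩ := hc
    obtain ⟨p, q, hpq⟩ := mul_mem (inv_mem w.2) v.2
    rw [dG_apply, hpq] at hs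
    have h2 : h.u 0 0 * h.d s = h.u p q * h.d 1 := by rw [h.u_zero, one_mul, h.d_one, mul_one, hs]
    obtain ⟨rfl, rfl, -⟩ := h.ud_injective h2
    rw [h.u_zero] at hpq
    exact Subtype.ext (inv_mul_eq_one.1 hpq).symm
  intro v hv
  obtain ⟨w, hw⟩ := (Finite.injective_iff_surjective.1 hinj) ⟨v, hv⟩
  have hw' : (w : Cfsg.Sz F m) * h.d t * (w : Cfsg.Sz F m)⁻¹ * (h.d t)⁻¹ = v := congrArg Subtype.val hw
  rw [← hw']
  exact h.coreU_le H (mul_mem (h.coreU_conj hd w.2) (inv_mem hd))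

theorem coreU_le_Z {H : Subgroup (Cfsg.Sz F m)} (hH : H ≠ ⊤) {b₁ : F} (hZ : h.u 0 b₁ ∉ H) {g : Cfsg.Sz F m}
    (hg : g ∈ h.coreU H) : ∃ y, g = h.u 0 y := by
  obtain ⟨a, b, rfl⟩ := h.coreU_le_U hH (fun e => hZ (e (h.u_mem_U 0 b₁))) hg
  refine ⟨b, ?_⟩
  suffices ha : a = 0 by rw [ha]
  by_contra ha
  apply hZ
  apply h.coreU_le
  -- commutators and squares give the centre
  have hbr : ∀ c, h.u 0 (th m c * a + th m a * c) ∈ h.coreU H := fun c => by
    rw [← h.commutator_u c 0 a b, commutatorElement_def]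
    exact mul_mem (h.coreU_conj hg (h.u_mem_U c 0)) (inv_mem hg)
  obtain ⟨c, hc⟩ := h.pairing_cover (b₁ / (th m a * a))
  have hta : th m a * a ≠ 0 := mul_ne_zero (th_ne_zero ha) ha
  rcases hc with hc | hc <;> rw [div_eq_iff hta] at hc
  · have := hbr (a * c)
    rwa [th_mul, show th m a * th m c * a + th m a * (a * c) = b₁ by rw [hc]; ring] at this
  · have := mul_mem (hbr (a * c)) (mul_mem hg hg)
    rw [h.u_sq, h.u_mul, add_zero, mul_zero, add_zero, th_mul] at this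
    rwa [show th m a * th m c * a + th m a * (a * c) + th m a * a = b₁ by rw [hc]; ring] at this

/-- A subgroup meeting a Sylow centre properly. -/
theorem not_binRep_partial {H : Subgroup (Cfsg.Sz F m)} (hH : H ≠ ⊤) {b₀ b₁ : F} (hb₀ : b₀ ≠ 0)
    (hV : h.u 0 b₀ ∈ H) (hZ : h.u 0 b₁ ∉ H) : ¬ BinRep H := by
  classical
  have := h.finite
  have := h.finite_group
  set V : Set F := {b | h.u 0 b ∈ H} with hVdef
  have hzV : b₁ ∉ V := hZ
  have hVadd : ∀ {x y : F}, x ∈ V → y ∈ V → x + y ∈ V := fun {x y} hx hy => by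
    have := mul_mem (show h.u 0 x ∈ H from hx) (show h.u 0 y ∈ H from hy)
    rwa [h.u_mul, add_zero, mul_zero, add_zero] at this
  have hV0 : (0 : F) ∈ V := by show h.u 0 0 ∈ H; rw [h.u_zero]; exact one_mem H
  let Λ : Set Fˣ := {r | ∃ v w, v ∈ V ∧ w ∈ V ∧ th m (kap m r) * kap m r * v + w = b₁}
  let ι := {x : Cfsg.Sz F m // ∃ r ∈ Λ, ∃ v ∈ h.U, x = h.d r * v}
  have hscale : ∀ (r : Fˣ) (y : F), (h.d r)⁻¹ * h.u 0 (th m (kap m r) * kap m r * y) * h.d r = h.u 0 y := fun r y => by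
    rw [show h.u 0 (th m (kap m r) * kap m r * y) = h.d r * h.u 0 y * (h.d r)⁻¹ by rw [h.d_u, mul_zero]]
    group
  refine not_binRep (fun i : ι => i.1) 1 (h.u 0 b₁) ?_ ?_
  · rintro ⟨x, r, ⟨v, w, hv, hw, he⟩, u', hu', rfl⟩
    refine ⟨h.u 0 (th m (kap m r) * kap m r * v), ?_, ?_⟩
    · show (h.d r * u')⁻¹ * _ * (h.d r * u') ∈ H
      rw [show (h.d r * u')⁻¹ * h.u 0 (th m (kap m r) * kap m r * v) * (h.d r * u') =
        u'⁻¹ * ((h.d r)⁻¹ * h.u 0 (th m (kap m r) * kap m r * v) * h.d r) * u' by group, hscale]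
      obtain ⟨p, q, rfl⟩ := hu'
      rw [mul_assoc, ← (h.u_comm_iff p q 0 v).2 (by simp), inv_mul_cancel_left]
      exact hv
    · rw [mul_one, h.u_inv, h.u_mul, add_zero, th_zero, zero_mul, add_zero, add_zero,
        show b₁ + th m (kap m r) * kap m r * v = w by linear_combination -he + (th m (kap m r) * kap m r * v) * h.two_eq_zero]
      exact hw
  intro g hg hg'
  have hcore : ∀ r ∈ Λ, (h.d r)⁻¹ * g * h.d r ∈ h.coreU H := fun r hr v hv => by
    have := hg ⟨h.d r * v, r, hr, v, hv, rfl⟩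
    rwa [show v⁻¹ * ((h.d r)⁻¹ * g * h.d r) * v = (h.d r * v)⁻¹ * g * (h.d r * v) by group]
  -- the set of multipliers is non-empty
  have hex : ∀ {v w : F}, v ∈ V → w ∈ V → v ≠ 0 →
      ∃ r ∈ Λ, th m (kap m r) * kap m r = (b₁ + w) / v := by
    intro v w hv hw hv0
    have hne : (b₁ + w) / v ≠ 0 := div_ne_zero (fun e => hzV (h.add_eq_zero_iff.1 e ▸ hw)) hv0
    obtain ⟨c, hc⟩ := h.th_mul_self_bijective.2 ((b₁ + w) / v)
    dsimp only at hc
    obtain ⟨r, rfl⟩ := h.exists_kap (κ := c) (fun e => hne (by rw [← hc, e, mul_zero]))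
    refine ⟨r, ⟨v, w, hv, hw, ?_⟩, hc⟩
    rw [hc, div_mul_cancel₀ _ hv0]
    linear_combination w * h.two_eq_zero
  obtain ⟨r₀, hr₀, -⟩ := hex hV hV0 hb₀
  obtain ⟨y₀, hy₀⟩ := h.coreU_le_Z hH hZ (hcore r₀ hr₀)
  obtain ⟨y, hgy⟩ : ∃ y, g = h.u 0 y := ⟨th m (kap m r₀) * kap m r₀ * y₀, by
    have : g = h.d r₀ * ((h.d r₀)⁻¹ * g * h.d r₀) * (h.d r₀)⁻¹ := by group
    rw [this, hy₀, h.d_u, mul_zero]⟩
  subst hgy
  rw [mul_one, h.u_inv, h.u_mul, add_zero, th_zero, zero_mul, add_zero, add_zero] at hg'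
  have hyV : b₁ + y ∈ V := hg'
  have hy0 : y ≠ 0 := fun e => hzV (by rw [e, add_zero] at hyV; exact hyV)
  -- the multipliers preserving `V`
  set S : Set F := {c | ∀ v ∈ V, c * v ∈ V} with hS
  have hSc : ∀ w ∈ V, y / (b₁ + w) ∈ S := by
    intro w hw v hv
    rcases eq_or_ne v 0 with rfl | hv0
    · rw [mul_zero]; exact hV0
    obtain ⟨r, hr, hrv⟩ := hex hv hw hv0
    have h1 := h.coreU_le H (hcore r hr)
    have hc0 : th m (kap m r) * kap m r ≠ 0 := mul_ne_zero (th_ne_zero (kap_ne_zero m r)) (kap_ne_zero m r)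
    rw [← mul_div_cancel₀ y hc0, hscale] at h1
    show y / (b₁ + w) * v ∈ V
    rw [hrv, div_div_eq_mul_div, mul_div_right_comm] at h1
    exact h1
  have hSinv : ∀ c ∈ S, c ≠ 0 → c⁻¹ ∈ S := by
    intro c hc hc0 v hv
    have hinj : Set.InjOn (fun x => c * x) V := fun a _ b _ e => mul_left_cancel₀ hc0 e
    have hsub : (fun x => c * x) '' V ⊆ V := by rintro _ ⟨x, hx, rfl⟩; exact hc x hx
    have heq : (fun x => c * x) '' V = V :=
      Set.eq_of_subset_of_ncard_le hsub (by rw [Set.ncard_image_of_injOn hinj])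
    obtain ⟨x, hx, he⟩ := heq.ge hv
    rw [← he, inv_mul_cancel_left₀ hc0]
    exact hx
  -- every element of `V` lies in `y S`
  have hy : ∀ w ∈ V, (b₁ + w) / y ∈ S := fun w hw => by
    have hne : b₁ + w ≠ 0 := fun e => hzV (h.add_eq_zero_iff.1 e ▸ hw)
    have := hSinv _ (hSc w hw) (div_ne_zero hy0 hne)
    rwa [inv_div] at this
  have hb : b₀ / y ∈ S := by
    intro v hv
    have := hVadd (hy b₀ hV v hv) (hy 0 hV0 v hv)
    rwa [show (b₁ + b₀) / y * v + (b₁ + 0) / y * v = b₀ / y * v by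
      field_simp; linear_combination (v * b₁) * h.two_eq_zero] at this
  have hyV' : y ∈ V := by
    have := hSinv _ hb (div_ne_zero hb₀ hy0) b₀ hV
    rwa [inv_div, div_mul_cancel₀ _ hb₀] at this
  refine hzV ?_
  have := hVadd hyV hyV'
  rwa [add_assoc, h.add_self, add_zero] at this

/-- A subgroup of `U` with an element of order four. -/
theorem not_binRep_four {H : Subgroup (Cfsg.Sz F m)} (hZ : h.Z ≤ H) (hU : H ≤ h.U) {x : Cfsg.Sz F m} (hx : x ∈ H)
    (hxo : orderOf x = 4) : ¬ BinRep H := by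
  classical
  have := h.finite_group
  obtain ⟨r₀, r₁, r₂, -, hr₁, -, -⟩ := h.three_reps
  obtain ⟨hr, hro, hrc, hrN⟩ := hr₁
  set N := norOf r₁
  obtain ⟨v, hvN, hvo⟩ : ∃ v, v ∈ N ∧ orderOf v = 4 := by
    have hpos : 0 < 2 * Nat.card (cenOf r₁) := Nat.mul_pos (by norm_num) Nat.card_pos
    rw [← h.ncard_order_four hr hro hrN] at hpos
    exact ((Set.ncard_pos (Set.toFinite _)).1 hpos).imp fun v hv => hv
  have hclassH : ∀ {w : Cfsg.Sz F m}, orderOf w = 4 → ∃ k, k⁻¹ * w * k ∈ H := by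
    intro w hw
    rcases h.classes_order_four hxo hw with h1 | h1 <;> obtain ⟨k, rfl⟩ := isConj_iff.1 h1
    · exact ⟨k, by rwa [show k⁻¹ * (k * x * k⁻¹) * k = x by group]⟩
    · exact ⟨k, by rw [show k⁻¹ * (k * x⁻¹ * k⁻¹) * k = x⁻¹ by group]; exact inv_mem hx⟩
  -- an involution other than the square
  obtain ⟨y, hyN, hyo, hyv⟩ : ∃ y, y ∈ N ∧ orderOf y = 2 ∧ y ≠ v * v := by
    by_contra hno
    push Not at hno
    have hle : {w | w ∈ N ∧ orderOf w = 2}.ncard ≤ ({v * v} : Set (Cfsg.Sz F m)).ncard :=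
      Set.ncard_le_ncard fun w hw => hno w hw.1 hw.2
    rw [h.ncard_involutions hr hro, Set.ncard_singleton, hrc] at hle
    have := Nat.two_pow_pos (2 * m + 1)
    generalize 2 ^ (2 * m + 1) = q, 2 ^ (m + 1) = r at *
    omega
  have hvv : orderOf (v * v) = 2 := by rw [← pow_two, orderOf_pow' v two_ne_zero, hvo]; rfl
  have hy2 : y * y = 1 := by rw [← pow_two, ← hyo, pow_orderOf_eq_one]
  have hyinv : y⁻¹ = y := inv_eq_of_mul_eq_one_right hy2
  have hgm : r₁ ∈ cenOf r₁ := Subgroup.mem_centralizer_singleton_iff.2 rfl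
  have hnv : v ∉ cenOf r₁ := fun e => by
    have := h.orderOf_mem_cenOf hr hro e
    rw [hvo] at this
    exact absurd this (by decide)
  -- the products of involutions in the torus normaliser lie in the torus
  have hinvprod : ∀ {s s' : Cfsg.Sz F m}, s ∈ N → s' ∈ N → orderOf s = 2 → orderOf s' = 2 → s * s' ∈ cenOf r₁ := by
    intro s s' hs hs' hso hso'
    rw [Subgroup.mem_centralizer_singleton_iff]
    have e1 := h.inv_spec hr hro hs hso (inv_mem hgm)
    have e2 := h.inv_spec hr hro hs' hso' hgm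
    calc s * s' * r₁ = s * (s' * r₁ * s'⁻¹) * s⁻¹ * (s * s') := by group
      _ = r₁ * (s * s') := by rw [e2, e1, inv_inv]
  have hc4 : orderOf (y⁻¹ * v) = 4 := by
    rcases h.order_cases (y⁻¹ * v) with h4 | hodd
    · obtain ⟨i, hi, hio⟩ := (Nat.dvd_prime_pow Nat.prime_two).1 (show orderOf (y⁻¹ * v) ∣ 2 ^ 2 from h4)
      match i, hi, hio with
      | 0, _, hio =>
        exfalso
        have e : y = v := inv_mul_eq_one.1 (orderOf_eq_one_iff.1 (by simpa using hio))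
        rw [e, hvo] at hyo; omega
      | 1, _, hio =>
        exfalso
        have := hinvprod hyN ((Subgroup.mul_mem _ (inv_mem hyN) hvN)) hyo (by simpa using hio)
        rw [hyinv, ← mul_assoc, hy2, one_mul] at this
        exact hnv this
      | 2, _, hio => simpa using hio
      | (_ + 3), hi, _ => omega
    · exfalso
      have h1 := h.mem_cenOf_of_odd hr hro (Subgroup.mul_mem _ (inv_mem hyN) hvN) hodd
      -- then `v` inverts the torus, so `v` is an involution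
      have hv2 : v * v = 1 := by
        set c := y⁻¹ * v with hc
        have e := h.inv_spec hr hro hyN hyo h1
        have hv' : v = y * c := by rw [hc, mul_inv_cancel_left]
        rw [hv', show y * c * (y * c) = y * c * y⁻¹ * (y * y) * c by group, e, hy2, mul_one, inv_mul_cancel]
      rw [hv2, orderOf_one] at hvv
      omega
  obtain ⟨kA, hkA⟩ := hclassH hvo
  obtain ⟨kC, hkC⟩ := hclassH hc4
  obtain ⟨kB, b, hb, hkB⟩ := h.involution_spec hyo
  have hPQ : kA • oInf F m ≠ kB • oInf F m := by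
    intro e
    have hA : kA⁻¹ * (v * v) * kA ∈ h.Z := by
      have := hU hkA
      obtain ⟨p, q, hpq⟩ := this
      exact ⟨th m p * p, by rw [show kA⁻¹ * (v * v) * kA = kA⁻¹ * v * kA * (kA⁻¹ * v * kA) by group, hpq, h.u_sq]⟩
    have hB : kA⁻¹ * y * kA ∈ h.Z := h.Z_move (k := kB) ⟨b, by rw [hkB]; group⟩ e
    have hprod := hinvprod hyN (Subgroup.mul_mem _ hvN hvN) hyo hvv
    have h3 := h.sq_eq_one_of_mem_Z (mul_mem hB hA)
    rw [show kA⁻¹ * y * kA * (kA⁻¹ * (v * v) * kA) = kA⁻¹ * (y * (v * v)) * kA by group,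
      show kA⁻¹ * (y * (v * v)) * kA * (kA⁻¹ * (y * (v * v)) * kA) = kA⁻¹ * (y * (v * v) * (y * (v * v))) * kA by group] at h3
    have h4 : (y * (v * v)) ^ 2 = 1 := by rw [pow_two]; exact conj'_eq_one h3
    have h5 : y * (v * v) = 1 := orderOf_eq_one_iff.1 (Nat.eq_one_of_dvd_coprimes
      (Nat.coprime_two_left.2 (h.orderOf_mem_cenOf hr hro hprod)) (orderOf_dvd_of_pow_eq_one h4) dvd_rfl)
    exact hyv (hyinv ▸ (eq_inv_of_mul_eq_one_right h5).symm)
  refine not_binRep_triangle kA kB kC v y hkA ?_ hkC ?_ ?_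
  · rw [hkB, show kB⁻¹ * (kB * h.u 0 b * kB⁻¹) * kB = h.u 0 b by group]; exact hZ ⟨b, rfl⟩
  · intro g hgA hgB
    by_contra hg1
    exact hPQ (h.conj_U_fix (hU hgB) (h.fix_of_conj_mem_U (hU hgA)) hg1)
  · intro hvC
    have hv1 : v ≠ 1 := fun e => by rw [e, orderOf_one] at hvo; omega
    have hy1 : y ≠ 1 := fun e => by rw [e, orderOf_one] at hyo; omega
    have f1 := h.fix_of_conj_mem_U (hU hvC)
    have f2 := h.fix_of_conj_mem_U (hU hkC)
    have f3 : y • (kC • oInf F m) = kC • oInf F m := by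
      have e : y = v * (y⁻¹ * v)⁻¹ := by group
      rw [e, mul_smul, inv_smul_eq_iff.2 f2.symm, f1]
    exact hPQ ((h.conj_U_fix (hU hkA) f1 hv1).symm.trans
      (h.conj_U_fix (k := kB) (by rw [hkB, show kB⁻¹ * (kB * h.u 0 b * kB⁻¹) * kB = h.u 0 b by group]; exact h.u_mem_U 0 b)
        f3 hy1))

/-- A subgroup of a point stabiliser with a torus element and the centre. -/
theorem not_binRep_borel {H : Subgroup (Cfsg.Sz F m)} (hH : H ≠ ⊤) (hZ : h.Z ≤ H)
    (hB : H ≤ MulAction.stabilizer (Cfsg.Sz F m) (oInf F m)) {t : Fˣ} (ht : t ≠ 1) (htH : h.d t ∈ H) :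
    ¬ BinRep H := by
  classical
  have := h.finite_group
  have hfixH : ∀ {v : Cfsg.Sz F m}, v ∈ H → v • oInf F m = oInf F m := fun {v} hv => MulAction.mem_stabilizer_iff.1 (hB hv)
  have hK1 : kap m t ≠ 1 := fun e => ht (h.kap_eq_one e)
  set x := h.d t with hxdef
  set R := oPt m (1 : F) 1 with hR
  set R' := x • R with hR'
  have hxR : R' = oPt m (kap m t) (th m (kap m t) * kap m t) := by
    rw [hR', hR, hxdef, h.d_smul, mul_one, mul_one]
  have hRR : R ≠ R' := fun e => hK1 (oPt_injective (e.trans hxR)).1.symm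
  obtain ⟨g, hg1, hg2⟩ := h.exists_smul_eq_pair hRR
  have hfix0 : (g⁻¹ * x⁻¹ * g * h.w) • oInf F m = oInf F m := by
    rw [mul_smul, mul_smul, mul_smul, h.w_smul_inf, hg2, hR', inv_smul_smul, inv_smul_eq_iff, hg1]
  obtain ⟨a, b, τ, hτ⟩ := h.eq_u_mul_d hfix0
  -- the swapping involutions
  set Y : Fˣ → Cfsg.Sz F m := fun s => g * (h.w * h.d s) * g⁻¹ with hY
  have hYR : ∀ s, Y s • R = R' := fun s => by
    show (g * (h.w * h.d s) * g⁻¹) • R = R'
    rw [mul_smul, mul_smul, inv_smul_eq_iff.2 hg1.symm, mul_smul, h.d_smul_inf, h.w_smul_inf, hg2]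
  have hY2 : ∀ s, orderOf (Y s) = 2 := fun s => by
    have : Fact (Nat.Prime 2) := ⟨Nat.prime_two⟩
    rw [show Y s = MulAut.conj g (h.w * h.d s) by simp [hY], MulEquiv.orderOf_eq]
    refine orderOf_eq_prime ?_ ?_
    · rw [pow_two, show h.w * h.d s * (h.w * h.d s) = h.w * h.d s * h.w * h.d s by group, h.w_d, h.d_mul,
        inv_mul_cancel, h.d_one]
    · intro e
      have h1 : (h.w * h.d s) • oInf F m = oPt m 0 0 := by rw [mul_smul, h.d_smul_inf, h.w_smul_inf]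
      rw [e, one_smul] at h1
      exact oPt_ne_oInf (0 : F) 0 h1.symm
  have hrel : ∀ s, g⁻¹ * (x⁻¹ * Y s) * g = h.u a b * h.d (τ * s) := fun s => by
    rw [← h.d_mul, ← mul_assoc (h.u a b), ← hτ]
    simp only [hY]
    group
  have hQ : ∀ s, ∃ k b', b' ≠ 0 ∧ Y s = k * h.u 0 b' * k⁻¹ ∧ k • oInf F m ≠ oInf F m ∧
      (Y s • R ≠ R) := fun s => by
    obtain ⟨k, b', hb', hk⟩ := h.involution_spec (hY2 s)
    refine ⟨k, b', hb', hk, fun e => ?_, by rw [hYR]; exact hRR.symm⟩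
    have hz : k⁻¹ * Y s * k ∈ h.Z := ⟨b', by rw [hk]; group⟩
    obtain ⟨c, hc⟩ : (1 : Cfsg.Sz F m)⁻¹ * Y s * 1 ∈ h.Z := h.Z_move hz (by rw [one_smul, e])
    rw [inv_one, one_mul, mul_one] at hc
    have h1 := hYR s
    rw [hc, hR, h.u_smul, hxR] at h1
    exact hK1 (by simpa using (oPt_injective h1).1.symm)
  by_cases hU : h.U ≤ H
  · -- two torus values
    have hmem : ∀ t', h.d t' ∈ H → g⁻¹ * (x⁻¹ * Y (τ⁻¹ * t')) * g ∈ H := fun t' ht' => by
      rw [hrel, mul_inv_cancel_left]; exact mul_mem (hU (h.u_mem_U a b)) ht'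
    set y₁ := Y (τ⁻¹ * 1) with hy₁
    set y₂ := Y (τ⁻¹ * t) with hy₂
    obtain ⟨k₁, c₁, hc₁, e₁, hk₁, hm₁⟩ := hQ (τ⁻¹ * 1)
    obtain ⟨k₂, c₂, hc₂, e₂, hk₂, hm₂⟩ := hQ (τ⁻¹ * t)
    refine not_binRep (fun i : Option Bool => i.elim 1 fun j => cond j k₁ k₂) g (x * g) ?_ ?_
    · rintro (_ | _ | _)
      · refine ⟨x, ?_, ?_⟩
        · show (1 : Cfsg.Sz F m)⁻¹ * x * 1 ∈ H
          rw [inv_one, one_mul, mul_one]; exact htH
        · rw [show (x * g)⁻¹ * x * g = 1 by group]; exact one_mem H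
      · refine ⟨y₂, ?_, ?_⟩
        · show k₂⁻¹ * y₂ * k₂ ∈ H
          rw [hy₂, e₂, show k₂⁻¹ * (k₂ * h.u 0 c₂ * k₂⁻¹) * k₂ = h.u 0 c₂ by group]; exact hZ ⟨c₂, rfl⟩
        · rw [show (x * g)⁻¹ * y₂ * g = g⁻¹ * (x⁻¹ * y₂) * g by group]; exact hmem t htH
      · refine ⟨y₁, ?_, ?_⟩
        · show k₁⁻¹ * y₁ * k₁ ∈ H
          rw [hy₁, e₁, show k₁⁻¹ * (k₁ * h.u 0 c₁ * k₁⁻¹) * k₁ = h.u 0 c₁ by group]; exact hZ ⟨c₁, rfl⟩
        · rw [show (x * g)⁻¹ * y₁ * g = g⁻¹ * (x⁻¹ * y₁) * g by group]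
          exact hmem 1 (by rw [h.d_one]; exact one_mem H)
    intro z hz hz'
    have f0 := hfixH (hz none)
    simp only [Option.elim, inv_one, one_mul, mul_one] at f0
    have fk : ∀ {k : Cfsg.Sz F m}, k⁻¹ * z * k ∈ H → z • (k • oInf F m) = k • oInf F m := fun {k} hk => by
      have := hfixH hk
      rwa [mul_smul, mul_smul, inv_smul_eq_iff] at this
    have f1 := fk (hz (some true))
    have f2 := fk (hz (some false))
    simp only [Option.elim, cond_true, cond_false] at f1 f2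
    have hz1 : z = 1 := by
      refine h.eq_one_of_fix_three (p := oInf F m) (q := k₁ • oInf F m) (r := k₂ • oInf F m) hk₁.symm ?_ hk₂.symm f0 f1 f2
      intro e
      -- two involutions with one fixed point and the same action on `R`
      have hz₁ : k₁⁻¹ * y₁ * k₁ ∈ h.Z := ⟨c₁, by rw [hy₁, e₁]; group⟩
      have hz₂ : k₁⁻¹ * y₂ * k₁ ∈ h.Z := h.Z_move (k := k₂) ⟨c₂, by rw [hy₂, e₂]; group⟩ e
      have hp := h.Z_le_U (mul_mem (inv_mem hz₁) hz₂)
      rw [show (k₁⁻¹ * y₁ * k₁)⁻¹ * (k₁⁻¹ * y₂ * k₁) = k₁⁻¹ * (y₁⁻¹ * y₂) * k₁ by group] at hp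
      have hne : y₁⁻¹ * y₂ ≠ 1 := fun e1 => by
        have h1 : Y (τ⁻¹ * 1) = Y (τ⁻¹ * t) := inv_mul_eq_one.1 e1
        simp only [hY] at h1
        exact ht (mul_left_cancel (h.d_injective (mul_left_cancel (mul_left_cancel (mul_right_cancel h1))))).symm
      have hR1 : R = k₁ • oInf F m := h.conj_U_fix hp (by
        rw [mul_smul, hy₂, hYR, inv_smul_eq_iff, hy₁, hYR]) hne
      refine hm₁ ?_
      rw [hR1, e₁, mul_smul, mul_smul, inv_smul_smul, h.u_smul_inf]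
    rw [hz1] at hz'
    have := hfixH hz'
    rw [mul_one, show (x * g)⁻¹ * g = g⁻¹ * x⁻¹ * g by group, mul_smul, mul_smul, hg1, inv_smul_eq_iff, hg1,
      inv_smul_eq_iff] at this
    exact hRR this
  · obtain ⟨k, c, hc, e, hk, hm⟩ := hQ (τ⁻¹ * t)
    obtain ⟨p, q, hpq⟩ := h.exists_conj_d a b ht
    set γ := g * h.u p q with hγ
    have hγmem : γ⁻¹ * (x⁻¹ * Y (τ⁻¹ * t)) * γ = x := by
      rw [hγ, show (g * h.u p q)⁻¹ * (x⁻¹ * Y (τ⁻¹ * t)) * (g * h.u p q) =
        (h.u p q)⁻¹ * (g⁻¹ * (x⁻¹ * Y (τ⁻¹ * t)) * g) * h.u p q by group, hrel, mul_inv_cancel_left]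
      exact hpq
    refine not_binRep (fun i : Option h.U => i.elim 1 fun v => k * (v : Cfsg.Sz F m)) γ (x * γ) ?_ ?_
    · rintro (_ | ⟨v, hv⟩)
      · refine ⟨x, ?_, ?_⟩
        · show (1 : Cfsg.Sz F m)⁻¹ * x * 1 ∈ H
          rw [inv_one, one_mul, mul_one]; exact htH
        · rw [show (x * γ)⁻¹ * x * γ = 1 by group]; exact one_mem H
      · refine ⟨Y (τ⁻¹ * t), ?_, ?_⟩
        · show (k * v)⁻¹ * Y (τ⁻¹ * t) * (k * v) ∈ H
          refine hZ (h.Z_move (k := k) ⟨c, by rw [e]; group⟩ ?_)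
          rw [mul_smul, h.mem_U_fix hv]
        · rw [show (x * γ)⁻¹ * Y (τ⁻¹ * t) * γ = γ⁻¹ * (x⁻¹ * Y (τ⁻¹ * t)) * γ by group, hγmem]; exact htH
    intro z hz hz'
    have f0 := hfixH (hz none)
    simp only [Option.elim, inv_one, one_mul, mul_one] at f0
    have hcore : k⁻¹ * z * k ∈ h.coreU H := fun v hv => by
      have := hz (some ⟨v, hv⟩)
      simp only [Option.elim] at this
      rwa [show v⁻¹ * (k⁻¹ * z * k) * v = (k * v)⁻¹ * z * (k * v) by group]
    have hz1 : z = 1 := by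
      by_contra hz1
      exact hk (h.conj_U_fix (h.coreU_le_U hH hU hcore) f0 hz1).symm
    rw [hz1] at hz'
    have h1 := hfixH hz'
    have hγR : γ • oInf F m = R := by rw [hγ, mul_smul, h.u_smul_inf, hg1]
    rw [mul_one, show (x * γ)⁻¹ * γ = γ⁻¹ * x⁻¹ * γ by group, mul_smul, mul_smul, hγR, inv_smul_eq_iff, hγR,
      inv_smul_eq_iff] at h1
    exact hRR h1

/-- Binary coset actions of the Suzuki group. -/
theorem binRep_cases {H : Subgroup (Cfsg.Sz F m)} (hH : H ≠ ⊤) (hb : BinRep H) :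
    H = ⊥ ∨ ∃ k : Cfsg.Sz F m, H = h.Z.map (MulAut.conj k).toMonoidHom := by
  classical
  have := h.finite
  have := h.finite_group
  refine or_iff_not_imp_left.2 fun hne => ?_
  rcases Nat.even_or_odd (Nat.card H) with hev | hodd
  swap
  · exact absurd hb (h.not_binRep_odd hne hodd)
  have : Fact (Nat.Prime 2) := ⟨Nat.prime_two⟩
  obtain ⟨⟨z, hzH⟩, hzo⟩ := exists_prime_orderOf_dvd_card' (G := H) 2 hev.two_dvd
  rw [Subgroup.orderOf_mk] at hzo
  obtain ⟨k, b₀, hb₀, rfl⟩ := h.involution_spec hzo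
  set H₁ := H.map (MulAut.conj k⁻¹).toMonoidHom with hH₁
  have hb1 : BinRep H₁ := hb.map _
  have hHeq : H = H₁.map (MulAut.conj k).toMonoidHom := by
    rw [hH₁, map_conj_mul, mul_inv_cancel, map_one]
    exact (Subgroup.map_id H).symm
  have hH₁top : H₁ ≠ ⊤ := fun e => hH (by
    rw [hHeq, e]
    exact Subgroup.map_top_of_surjective _ (MulAut.conj k).surjective)
  have hz₁ : h.u 0 b₀ ∈ H₁ := by rw [hH₁, mem_map_conj, inv_inv]; exact hzH
  by_cases hZ : h.Z ≤ H₁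
  swap
  · obtain ⟨_, ⟨b₁, rfl⟩, hb₁⟩ := SetLike.not_le_iff_exists.1 hZ
    exact absurd hb1 (h.not_binRep_partial hH₁top hb₀ hz₁ hb₁)
  refine ⟨k, ?_⟩
  rw [hHeq]
  congr 1
  have hzu : h.u 0 b₀ ≠ 1 := fun e => hb₀ (h.u_injective (e.trans h.u_zero.symm)).2
  rcases h.sub_classify H₁ with ⟨p, hp⟩ | ⟨g, hg, hgo, hle⟩ | ⟨j, c, hj, hdiv, hor, hc⟩
  · obtain rfl := h.u_fix hzu (MulAction.mem_stabilizer_iff.1 (hp hz₁))
    by_cases hU : H₁ ≤ h.U
    · refine le_antisymm (fun v hv => ?_) hZ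
      obtain ⟨a, b, rfl⟩ := hU hv
      rcases eq_or_ne a 0 with rfl | ha
      · exact ⟨b, rfl⟩
      · exact absurd hb1 (h.not_binRep_four hZ hU hv (h.orderOf_u ha))
    · exfalso
      obtain ⟨v, hv, hvU⟩ := SetLike.not_le_iff_exists.1 hU
      obtain ⟨a, b, t, rfl⟩ := h.eq_u_mul_d (MulAction.mem_stabilizer_iff.1 (hp hv))
      have ht : t ≠ 1 := fun e => hvU (by rw [e, h.d_one, mul_one]; exact h.u_mem_U a b)
      obtain ⟨x, y, hxy⟩ := h.exists_conj_d a b ht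
      set H₂ := H₁.map (MulAut.conj (h.u x y)⁻¹).toMonoidHom with hH₂
      refine h.not_binRep_borel (H := H₂) ?_ ?_ ?_ ht ?_ (hb1.map _)
      · intro e
        refine hH₁top (eq_top_iff.2 fun w _ => ?_)
        have := e.ge (Subgroup.mem_top ((h.u x y)⁻¹ * w * h.u x y))
        rwa [hH₂, mem_map_conj, inv_inv, show h.u x y * ((h.u x y)⁻¹ * w * h.u x y) * (h.u x y)⁻¹ = w by group] at this
      · rintro _ ⟨c, rfl⟩
        rw [hH₂, mem_map_conj, inv_inv, (h.u_comm_iff x y 0 c).2 (by simp), mul_inv_cancel_right]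
        exact hZ ⟨c, rfl⟩
      · intro w hw
        rw [hH₂, mem_map_conj, inv_inv] at hw
        have := MulAction.mem_stabilizer_iff.1 (hp hw)
        rw [mul_smul, mul_smul, inv_smul_eq_iff.2 (h.u_smul_inf x y).symm] at this
        exact MulAction.injective (h.u x y) (this.trans (h.u_smul_inf x y).symm)
      · rw [hH₂, mem_map_conj, inv_inv, ← hxy]
        group
        exact hv
  · exfalso
    obtain ⟨-, e, he, hN⟩ := h.odd_spec hg hgo
    have h1 := (Subgroup.card_dvd_of_le hZ).trans (Subgroup.card_dvd_of_le hle)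
    rw [h.card_Z, hN] at h1
    have h2 := (Nat.Coprime.pow_left (2 * m + 1) (Nat.coprime_two_left.2 (h.orders_odd (h.centralizer_card_mem hg hgo)))).dvd_of_dvd_mul_right
      (h1.trans (Nat.mul_dvd_mul_right he _))
    have h3 := Nat.le_of_dvd (by norm_num) h2
    have := q_ge h.one_le
    omega
  · exfalso
    have hjm : j < m := hor.resolve_right hH₁top
    have h1 := Subgroup.card_dvd_of_le hZ
    have hcard : Nat.card (H₁.map (MulAut.conj c).toMonoidHom) = Nat.card H₁ :=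
      Subgroup.card_map_of_injective (MulAut.conj c).injective
    rw [hc, h.card_subGroup hj hdiv] at hcard
    rw [← hcard, h.card_Z, mul_assoc] at h1
    have hcop : (2 ^ (2 * m + 1)).Coprime (((2 ^ (2 * j + 1)) ^ 2 + 1) * (2 ^ (2 * j + 1) - 1)) := by
      refine Nat.Coprime.pow_left _ (Nat.coprime_two_left.2 (Nat.odd_mul.2 ⟨?_, ?_⟩))
      · rw [← pow_mul]; exact Even.add_one (Nat.even_pow.2 ⟨even_two, by omega⟩)
      · exact Nat.Even.sub_odd Nat.one_le_two_pow (Nat.even_pow.2 ⟨even_two, by omega⟩) odd_one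
    have h2 := hcop.dvd_of_dvd_mul_right h1
    rw [← pow_mul, Nat.pow_dvd_pow_iff_le_right (by norm_num : 1 < 2)] at h2
    obtain ⟨i, hi⟩ := hdiv
    match i, hi with
    | 0, hi => omega
    | 1, hi => omega
    | 2, hi => omega
    | (i + 3), hi => nlinarith

/-- The Sylow centres. -/
theorem sylow_center_eq (H : Subgroup (Cfsg.Sz F m)) :
    (∃ P : Sylow 2 (Cfsg.Sz F m), H = (Subgroup.center (P : Subgroup (Cfsg.Sz F m))).map
        (P : Subgroup (Cfsg.Sz F m)).subtype) ↔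
      ∃ k : Cfsg.Sz F m, H = h.Z.map (MulAut.conj k).toMonoidHom := by
  have := h.finite_group
  have : Fact (Nat.Prime 2) := ⟨Nat.prime_two⟩
  have key : ∀ (P : Sylow 2 (Cfsg.Sz F m)) (k : Cfsg.Sz F m),
      (∀ x, x ∈ (P : Subgroup (Cfsg.Sz F m)) ↔ k⁻¹ * x * k ∈ h.U) →
      (Subgroup.center (P : Subgroup (Cfsg.Sz F m))).map (P : Subgroup (Cfsg.Sz F m)).subtype =
        h.Z.map (MulAut.conj k).toMonoidHom := by
    intro P k hk
    ext x
    rw [mem_map_conj]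
    constructor
    · rintro ⟨⟨x, hxP⟩, hx, rfl⟩
      obtain ⟨a, b, hab⟩ := (hk x).1 hxP
      refine ⟨b, ?_⟩
      show k⁻¹ * x * k = h.u 0 b
      suffices ha : a = 0 by rw [hab, ha]
      refine h.eq_zero_of_comm fun c => ?_
      have hy : k * h.u c 0 * k⁻¹ ∈ (P : Subgroup (Cfsg.Sz F m)) := (hk _).2 (by
        rw [show k⁻¹ * (k * h.u c 0 * k⁻¹) * k = h.u c 0 by group]; exact h.u_mem_U c 0)
      have := congrArg Subtype.val (Subgroup.mem_center_iff.1 hx ⟨_, hy⟩)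
      refine (h.u_comm_iff a b c 0).1 ?_
      rw [← hab]
      calc k⁻¹ * x * k * h.u c 0 = k⁻¹ * (x * (k * h.u c 0 * k⁻¹)) * k := by group
        _ = k⁻¹ * (k * h.u c 0 * k⁻¹ * x) * k := by rw [show x * (k * h.u c 0 * k⁻¹) = k * h.u c 0 * k⁻¹ * x from this.symm]
        _ = h.u c 0 * (k⁻¹ * x * k) := by group
    · intro hx
      have hxP : x ∈ (P : Subgroup (Cfsg.Sz F m)) := (hk x).2 (h.Z_le_U hx)
      refine ⟨⟨x, hxP⟩, Subgroup.mem_center_iff.2 ?_, rfl⟩
      rintro ⟨y, hy⟩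
      apply Subtype.ext
      show y * x = x * y
      obtain ⟨p, q, hpq⟩ := (hk y).1 hy
      obtain ⟨b, hb⟩ := hx
      have hcomm := (h.u_comm_iff p q 0 b).2 (by simp)
      rw [← hpq, ← hb] at hcomm
      calc y * x = k * (k⁻¹ * y * k * (k⁻¹ * x * k)) * k⁻¹ := by group
        _ = k * (k⁻¹ * x * k * (k⁻¹ * y * k)) * k⁻¹ := by rw [hcomm]
        _ = x * y := by group
  constructor
  · rintro ⟨P, rfl⟩
    obtain ⟨k, hk, -⟩ := h.sylow_eq_iff_fix P
    exact ⟨k, key P k hk⟩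
  · rintro ⟨k, rfl⟩
    refine ⟨k • h.sylU, (key _ k fun x => ?_).symm⟩
    rw [Sylow.coe_subgroup_smul, h.sylU_coe]
    exact h.coe_conj_U_eq k x

end Hyp

end CfsgLib.Suzuki
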