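import Cfsg.Agent.Lib.Suzuki.Binary

/-!
Actions on the cosets of a subgroup of odd order are not binary.
-/

set_option autoImplicit false

namespace CfsgLib.Suzuki

open scoped Pointwise

variable {F : Type*} [Field F] {m : ℕ}

namespace Hyp

variable (h : Hyp F m)
include h

/-- An involution is determined by its fixed point up to `Z`. -/
theorem involution_conj_Z {s : Cfsg.Sz F m} (hs : orderOf s = 2) {k : Cfsg.Sz F m}
    (hk : s • (k • oInf F m) = k • oInf F m) : ∃ b, b ≠ 0 ∧ k⁻¹ * s * k = h.u 0 b :=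
  h.u_eq_of_fix (z := k⁻¹ * s * k)
    (by rw [show k⁻¹ * s * k = MulAut.conj k⁻¹ s by simp, MulEquiv.orderOf_eq, hs])
    (by rw [mul_smul, mul_smul, hk, inv_smul_smul])

/-- Product of two standard involutions. -/
def std2 (β : F) : Cfsg.Sz F m := h.u 0 1 * (h.w * h.u 0 β * h.w)

theorem pair_param {k l : Cfsg.Sz F m} (hne : k • oInf F m ≠ l • oInf F m) :
    ∃ c : F, c ≠ 0 ∧ ∀ b b', b ≠ 0 → b' ≠ 0 →
      IsConj (k * h.u 0 b * k⁻¹ * (l * h.u 0 b' * l⁻¹)) (h.std2 (c * (b * b'))) := by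
  obtain ⟨g, hg1, hg2⟩ := h.exists_smul_eq_pair hne
  -- each side, moved to the standard points
  have side : ∀ {g k : Cfsg.Sz F m}, g • oInf F m = k • oInf F m →
      ∃ c : F, c ≠ 0 ∧ ∀ b, g⁻¹ * (k * h.u 0 b * k⁻¹) * g = h.u 0 (c * b) := by
    intro g k hgk
    obtain ⟨p, q, t, ht⟩ := h.eq_u_mul_d (g := g⁻¹ * k) (by rw [mul_smul, ← hgk, inv_smul_smul])
    refine ⟨th m (kap m t) * kap m t, mul_ne_zero (th_ne_zero (kap_ne_zero m t)) (kap_ne_zero m t), fun b => ?_⟩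
    rw [show g⁻¹ * (k * h.u 0 b * k⁻¹) * g = g⁻¹ * k * h.u 0 b * (g⁻¹ * k)⁻¹ by group, ht,
      show h.u p q * h.d t * h.u 0 b * (h.u p q * h.d t)⁻¹ =
        h.u p q * (h.d t * h.u 0 b * (h.d t)⁻¹) * (h.u p q)⁻¹ by group, h.d_u, mul_zero,
      (h.u_comm_iff p q 0 _).2 (by simp), mul_inv_cancel_right]
  obtain ⟨c₁, hc₁, e1⟩ := side hg1
  obtain ⟨c₂, hc₂, e2⟩ := side (g := g * h.w) (k := l) (by rw [mul_smul, h.w_smul_inf, hg2])
  refine ⟨c₁ * c₂, mul_ne_zero hc₁ hc₂, fun b b' hb hb' => ?_⟩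
  have h1 : IsConj (k * h.u 0 b * k⁻¹ * (l * h.u 0 b' * l⁻¹))
      (h.u 0 (c₁ * b) * (h.w * h.u 0 (c₂ * b') * h.w)) := by
    refine isConj_iff.2 ⟨g⁻¹, ?_⟩
    rw [← e1, ← e2, show h.w * ((g * h.w)⁻¹ * (l * h.u 0 b' * l⁻¹) * (g * h.w)) * h.w =
      h.w * h.w⁻¹ * (g⁻¹ * (l * h.u 0 b' * l⁻¹) * g) * (h.w * h.w) by group, mul_inv_cancel, one_mul,
      h.w_mul_self, mul_one]
    group
  obtain ⟨x, hx⟩ := h.th_mul_self_bijective.2 (c₁ * b)⁻¹
  dsimp only at hx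
  obtain ⟨t, rfl⟩ := h.exists_kap (κ := x) (fun e => inv_ne_zero (mul_ne_zero hc₁ hb) (by rw [← hx, e, mul_zero]))
  refine h1.trans (isConj_iff.2 ⟨h.d t, ?_⟩)
  have hwd : h.d t * h.w = h.w * h.d t⁻¹ := by
    rw [← h.w_d, ← mul_assoc, ← mul_assoc, h.w_mul_self, one_mul]
  have e3 : h.d t * (h.w * h.u 0 (c₂ * b') * h.w) * (h.d t)⁻¹ =
      h.w * (h.d t⁻¹ * h.u 0 (c₂ * b') * (h.d t⁻¹)⁻¹) * h.w := by
    calc h.d t * (h.w * h.u 0 (c₂ * b') * h.w) * (h.d t)⁻¹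
        = (h.d t * h.w) * h.u 0 (c₂ * b') * (h.w * (h.d t)⁻¹) := by group
      _ = (h.w * h.d t⁻¹) * h.u 0 (c₂ * b') * ((h.d t * h.w⁻¹)⁻¹) := by rw [hwd]; group
      _ = _ := by rw [h.w_inv, hwd, mul_inv_rev, h.w_inv]; group
  rw [show h.d t * (h.u 0 (c₁ * b) * (h.w * h.u 0 (c₂ * b') * h.w)) * (h.d t)⁻¹ =
    h.d t * h.u 0 (c₁ * b) * (h.d t)⁻¹ * (h.d t * (h.w * h.u 0 (c₂ * b') * h.w) * (h.d t)⁻¹) by group, e3,
    h.d_u, h.d_u, mul_zero, mul_zero, hx, inv_mul_cancel₀ (mul_ne_zero hc₁ hb), std2]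
  have hk1 : th m (kap m t⁻¹) * kap m t⁻¹ = c₁ * b := by
    have : kap m t⁻¹ = (kap m t)⁻¹ := by
      simp only [kap, Units.val_inv_eq_inv_val, th_inv]
    rw [this, th_inv, ← mul_inv, hx, inv_inv]
  rw [hk1, show c₁ * b * (c₂ * b') = c₁ * c₂ * (b * b') by ring]

/-- Every non-trivial element of odd order is a product of two involutions of standard type. -/
theorem exists_std2 {g : Cfsg.Sz F m} (hg : g ≠ 1) (hgo : Odd (orderOf g)) :
    ∃ β, β ≠ 0 ∧ IsConj g (h.std2 β) := by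
  have := h.finite_group
  obtain ⟨s, hs, hso⟩ : ∃ s, s ∈ norOf g ∧ orderOf s = 2 := by
    have hpos : 0 < Nat.card (cenOf g) := Nat.card_pos
    rw [← h.ncard_involutions hg hgo] at hpos
    exact ((Set.ncard_pos (Set.toFinite _)).1 hpos).imp fun s hs => hs
  have hss : s * s = 1 := by rw [← pow_two, ← hso, pow_orderOf_eq_one]
  have hgm : g ∈ cenOf g := Subgroup.mem_centralizer_singleton_iff.2 rfl
  have hinv := h.inv_spec hg hgo hs hso hgm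
  set s' := s * g with hs'
  have hs'2 : s' * s' = 1 := by
    rw [hs', show s * g * (s * g) = s * g * s⁻¹ * (s * s) * g by group, hinv, hss, mul_one, inv_mul_cancel]
  have hs'1 : s' ≠ 1 := fun e => by
    have h1 : s = g⁻¹ := eq_inv_of_mul_eq_one_left e
    rw [h1, orderOf_inv] at hso
    rw [hso] at hgo
    exact absurd hgo (by decide)
  have : Fact (Nat.Prime 2) := ⟨Nat.prime_two⟩
  have hs'o : orderOf s' = 2 := orderOf_eq_prime (by rw [pow_two, hs'2]) hs'1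
  obtain ⟨k, b, hb, hk⟩ := h.involution_spec hso
  obtain ⟨l, b', hb', hl⟩ := h.involution_spec hs'o
  have hprod : g = s * s' := by rw [hs', ← mul_assoc, hss, one_mul]
  have hne : k • oInf F m ≠ l • oInf F m := by
    intro e
    have h1 : k⁻¹ * s * k ∈ h.Z := ⟨b, by rw [hk]; group⟩
    have h2 : k⁻¹ * s' * k ∈ h.Z := h.Z_move (k := l) ⟨b', by rw [hl]; group⟩ e
    have h3 := h.sq_eq_one_of_mem_Z (mul_mem h1 h2)
    rw [show k⁻¹ * s * k * (k⁻¹ * s' * k) = k⁻¹ * g * k by rw [hprod]; group,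
      show k⁻¹ * g * k * (k⁻¹ * g * k) = k⁻¹ * (g * g) * k by group] at h3
    have h4 : g ^ 2 = 1 := by rw [pow_two]; exact conj'_eq_one h3
    exact hg (orderOf_eq_one_iff.1 (Nat.eq_one_of_dvd_coprimes (Nat.coprime_two_left.2 hgo)
      (orderOf_dvd_of_pow_eq_one h4) dvd_rfl))
  obtain ⟨c, hc, hpar⟩ := h.pair_param hne
  refine ⟨c * (b * b'), mul_ne_zero hc (mul_ne_zero hb hb'), ?_⟩
  rw [hprod, hk, hl]
  exact hpar b b' hb hb'

/-- Few elements of a maximal cyclic subgroup are conjugate to a given one. -/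
theorem ncard_conj_cenOf {g : Cfsg.Sz F m} (hg : g ≠ 1) (hgo : Odd (orderOf g)) :
    {y | y ∈ cenOf g ∧ IsConj g y}.ncard ≤ 4 := by
  have := h.finite_group
  have hgm : g ∈ cenOf g := Subgroup.mem_centralizer_singleton_iff.2 rfl
  obtain ⟨e, he, hN, -⟩ := h.coe_tor_data hg hgo
  have h1 := ncard_eq_mul_fibers (norOf g : Set (Cfsg.Sz F m)) (fun c => c * g * c⁻¹) (Nat.card (cenOf g))
    fun a ha => by
      rw [show {c | c ∈ (norOf g : Set (Cfsg.Sz F m)) ∧ c * g * c⁻¹ = a * g * a⁻¹} =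
          (a * ·) '' (cenOf g : Set (Cfsg.Sz F m)) from ?_, Set.ncard_image_of_injective _ (mul_right_injective a)]
      · rw [← Nat.card_coe_set_eq]; rfl
      ext c
      constructor
      · rintro ⟨-, hc⟩
        refine ⟨a⁻¹ * c, Subgroup.mem_centralizer_singleton_iff.2 ?_, by group⟩
        calc a⁻¹ * c * g = a⁻¹ * (c * g * c⁻¹) * c := by group
          _ = a⁻¹ * (a * g * a⁻¹) * c := by rw [hc]
          _ = g * (a⁻¹ * c) := by group
      · rintro ⟨y, hy, rfl⟩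
        refine ⟨(norOf g).mul_mem ha (Subgroup.le_normalizer hy), ?_⟩
        rw [show a * y * g * (a * y)⁻¹ = a * (y * g) * y⁻¹ * a⁻¹ by group,
          Subgroup.mem_centralizer_singleton_iff.1 hy]
        group
  rw [← Nat.card_coe_set_eq] at h1
  change Nat.card (norOf g) = _ at h1
  rw [hN, mul_comm] at h1
  refine le_trans (Set.ncard_le_ncard (t := (fun c => c * g * c⁻¹) '' (norOf g : Set (Cfsg.Sz F m))) ?_) ?_
  · rintro y ⟨hy, hc⟩
    obtain ⟨c, rfl⟩ := isConj_iff.1 hc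
    exact ⟨c, ti_of_centralizer (h.odd_spec hg hgo).1 g hgm hg c hy, rfl⟩
  · rw [← Nat.eq_of_mul_eq_mul_left Nat.card_pos h1]
    rcases he with rfl | rfl <;> norm_num

/-- A conjugate of `g` is a product of two conjugates of `g` with different maximal cyclic subgroups. -/
theorem exists_triangle {g : Cfsg.Sz F m} (hg : g ≠ 1) (hgo : Odd (orderOf g)) :
    ∃ a b c, IsConj g a ∧ IsConj g b ∧ IsConj g c ∧ a = b * c ∧ b ∉ cenOf a := by
  classical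
  have := h.finite
  have := h.finite_group
  obtain ⟨β, hβ, hgc⟩ := h.exists_std2 hg hgo
  set z₁ := h.u 0 (1 : F) with hz₁
  set g₀ := h.std2 β with hg₀
  have hg₀1 : g₀ ≠ 1 := fun e => hg (by rw [e, isConj_one_left] at hgc; exact hgc)
  have hg₀o : Odd (orderOf g₀) := by
    obtain ⟨c, hc⟩ := isConj_iff.1 hgc
    rwa [← hc, show c * g * c⁻¹ = MulAut.conj c g by simp, MulEquiv.orderOf_eq]
  set A := {y | y ∈ cenOf g₀ ∧ IsConj g₀ y} with hA
  -- points to avoid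
  set Bad₀ := {p : Cfsg.suzukiOvoid F m | ∃ y ∈ A, z₁ * y ≠ 1 ∧ orderOf (z₁ * y) = 2 ∧ (z₁ * y) • p = p} with hBad₀
  have hBad₀c : Bad₀.ncard ≤ 4 := by
    refine le_trans ?_ (h.ncard_conj_cenOf hg₀1 hg₀o)
    let φ : Cfsg.Sz F m → Cfsg.suzukiOvoid F m := fun y =>
      if hy : ∃ p, orderOf (z₁ * y) = 2 ∧ (z₁ * y) • p = p then hy.choose else oInf F m
    refine le_trans (Set.ncard_le_ncard (t := φ '' A) ?_) (Set.ncard_image_le)
    rintro p ⟨y, hy, -, hyo, hyp⟩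
    refine ⟨y, hy, ?_⟩
    have hex : ∃ p, orderOf (z₁ * y) = 2 ∧ (z₁ * y) • p = p := ⟨p, hyo, hyp⟩
    show φ y = p
    simp only [φ, dif_pos hex]
    obtain ⟨k, b, hb, hk⟩ := h.involution_spec hyo
    have hkU : k⁻¹ * (z₁ * y) * k ∈ h.U := by
      rw [hk, show k⁻¹ * (k * h.u 0 b * k⁻¹) * k = h.u 0 b by group]; exact h.u_mem_U 0 b
    have hne : z₁ * y ≠ 1 := fun e => by rw [e, orderOf_one] at hyo; omega
    rw [h.conj_U_fix hkU hex.choose_spec.2 hne, h.conj_U_fix hkU hyp hne]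
  set Bad : Set (Cfsg.suzukiOvoid F m) :=
    (fun q : Fˣ × Cfsg.suzukiOvoid F m => h.d q.1 • q.2) '' (Set.univ ×ˢ Bad₀) ∪ {oInf F m, oPt m 0 0} with hBad
  obtain ⟨⟨x, y⟩, hxy⟩ : ∃ q : F × F, oPt m q.1 q.2 ∉ Bad := by
    by_contra hno
    push Not at hno
    have h1 : (Set.range fun q : F × F => oPt m q.1 q.2).ncard ≤ Bad.ncard :=
      Set.ncard_le_ncard (Set.range_subset_iff.2 hno)
    rw [Set.ncard_range_of_injective (fun q q' e => Prod.ext (oPt_injective e).1 (oPt_injective e).2),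
      Nat.card_prod, h.card] at h1
    have h2 : Bad.ncard ≤ (2 ^ (2 * m + 1) - 1) * 4 + 2 := by
      refine (Set.ncard_union_le _ _).trans (Nat.add_le_add ((Set.ncard_image_le).trans ?_) ?_)
      · rw [Set.ncard_prod, Set.ncard_univ, h.card_units]
        exact Nat.mul_le_mul_left _ hBad₀c
      · exact (Set.ncard_insert_le _ _).trans (by rw [Set.ncard_singleton])
    have h3 : 8 ≤ 2 ^ (2 * m + 1) := q_ge h.one_le
    generalize 2 ^ (2 * m + 1) = q at *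
    have h4 : 8 * q ≤ q * q := Nat.mul_le_mul_right q h3
    omega
  set p := oPt m x y with hp
  obtain ⟨k, hk⟩ := h.exists_smul_inf_eq p
  have hw0 : h.w • oInf F m = oPt m 0 0 := h.w_smul_inf
  have n12 : (1 : Cfsg.Sz F m) • oInf F m ≠ h.w • oInf F m := by
    rw [one_smul, hw0]; exact (oPt_ne_oInf 0 0).symm
  have n13 : (1 : Cfsg.Sz F m) • oInf F m ≠ k • oInf F m := by
    rw [one_smul, hk]; exact fun e => hxy (Or.inr (Or.inl e.symm))
  have n23 : h.w • oInf F m ≠ k • oInf F m := by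
    rw [hw0, hk]; exact fun e => hxy (Or.inr (Or.inr (Set.mem_singleton_iff.2 e.symm)))
  obtain ⟨c₁₃, hc₁₃, h13⟩ := h.pair_param n13
  obtain ⟨c₂₃, hc₂₃, h23⟩ := h.pair_param n23
  -- the scalars
  obtain ⟨b₁, hb₁⟩ : ∃ b, b ^ 2 = β * c₂₃ / c₁₃ := by
    have := h.charP
    exact ⟨_, (frobeniusEquiv F 2).apply_symm_apply _⟩
  have hb₁0 : b₁ ≠ 0 := fun e => by
    rw [e, zero_pow (by norm_num)] at hb₁
    exact div_ne_zero (mul_ne_zero hβ hc₂₃) hc₁₃ hb₁.symm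
  set b₂ := β / b₁ with hb₂
  set b₃ := β / (c₁₃ * b₁) with hb₃
  have hb₂0 : b₂ ≠ 0 := div_ne_zero hβ hb₁0
  have hb₃0 : b₃ ≠ 0 := div_ne_zero hβ (mul_ne_zero hc₁₃ hb₁0)
  have e12 : b₁ * b₂ = β := by rw [hb₂]; field_simp
  have e13 : c₁₃ * (b₁ * b₃) = β := by rw [hb₃]; field_simp
  have e23 : c₂₃ * (b₂ * b₃) = β := by
    have hb₁' : c₁₃ * b₁ ^ 2 = β * c₂₃ := by rw [hb₁]; field_simp
    rw [hb₂, hb₃]
    field_simp
    linear_combination -hb₁'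
  set s₁ := h.u 0 b₁ with hs₁
  set s₂ := h.w * h.u 0 b₂ * h.w with hs₂
  set s₃ := k * h.u 0 b₃ * k⁻¹ with hs₃
  have hsq : ∀ b : F, h.u 0 b * h.u 0 b = 1 := fun b => by rw [h.u_sq, th_zero, zero_mul, h.u_zero]
  have hs₂2 : s₂ * s₂ = 1 := by
    rw [hs₂, show h.w * h.u 0 b₂ * h.w * (h.w * h.u 0 b₂ * h.w) = h.w * h.u 0 b₂ * (h.w * h.w) * h.u 0 b₂ * h.w by group,
      h.w_mul_self, mul_one, mul_assoc _ (h.u 0 b₂) (h.u 0 b₂), hsq, mul_one, h.w_mul_self]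
  have C13 : IsConj (s₁ * s₃) g₀ := by
    have := h13 b₁ b₃ hb₁0 hb₃0
    rwa [one_mul, inv_one, mul_one, e13] at this
  have C23 : IsConj (s₂ * s₃) g₀ := by
    have := h23 b₂ b₃ hb₂0 hb₃0
    rwa [h.w_inv, e23] at this
  -- conjugate to the base pair
  obtain ⟨t, ht⟩ : ∃ t : Fˣ, th m (kap m t) * kap m t = b₁⁻¹ := by
    obtain ⟨c, hc⟩ := h.th_mul_self_bijective.2 b₁⁻¹
    dsimp only at hc
    obtain ⟨t, rfl⟩ := h.exists_kap (κ := c) (fun e => inv_ne_zero hb₁0 (by rw [← hc, e, mul_zero]))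
    exact ⟨t, hc⟩
  have ht1 : h.d t * s₁ * (h.d t)⁻¹ = z₁ := by
    rw [hs₁, h.d_u, mul_zero, ht, inv_mul_cancel₀ hb₁0]
  have ht2 : h.d t * s₂ * (h.d t)⁻¹ = h.w * h.u 0 β * h.w := by
    have hwd : h.d t * h.w = h.w * h.d t⁻¹ := by
      rw [← h.w_d, ← mul_assoc, ← mul_assoc, h.w_mul_self, one_mul]
    calc h.d t * s₂ * (h.d t)⁻¹ = (h.d t * h.w) * h.u 0 b₂ * (h.d t * h.w⁻¹)⁻¹ := by rw [hs₂]; group
      _ = h.w * (h.d t⁻¹ * h.u 0 b₂ * (h.d t⁻¹)⁻¹) * h.w := by rw [h.w_inv, hwd, mul_inv_rev, h.w_inv]; group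
      _ = h.w * h.u 0 β * h.w := by
        have : kap m t⁻¹ = (kap m t)⁻¹ := by simp only [kap, Units.val_inv_eq_inv_val, th_inv]
        rw [h.d_u, mul_zero, this, th_inv, ← mul_inv, ht, inv_inv, e12]
  have hbc : h.d t * (s₁ * s₂) * (h.d t)⁻¹ = g₀ := by
    rw [hg₀, std2, ← ht2, ← hz₁, ← ht1]; group
  have C12 : IsConj (s₁ * s₂) g₀ := isConj_iff.2 ⟨h.d t, hbc⟩
  refine ⟨s₁ * s₃, s₁ * s₂, s₂ * s₃, hgc.trans C13.symm, hgc.trans C12.symm, hgc.trans C23.symm, ?_, ?_⟩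
  · rw [show s₁ * s₂ * (s₂ * s₃) = s₁ * (s₂ * s₂) * s₃ by group, hs₂2, mul_one]
  intro hmem
  -- the third point would be bad
  refine hxy (Or.inl ⟨(t⁻¹, h.d t • p), ⟨Set.mem_univ _, ?_⟩, ?_⟩)
  swap
  · show h.d t⁻¹ • h.d t • p = p
    rw [← h.d_inv, inv_smul_smul]
  refine ⟨h.d t * (s₁ * s₃) * (h.d t)⁻¹, ⟨?_, C13.symm.trans (isConj_iff.2 ⟨h.d t, rfl⟩)⟩, ?_, ?_, ?_⟩
  · rw [Subgroup.mem_centralizer_singleton_iff, ← hbc]
    have := Subgroup.mem_centralizer_singleton_iff.1 hmem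
    calc h.d t * (s₁ * s₃) * (h.d t)⁻¹ * (h.d t * (s₁ * s₂) * (h.d t)⁻¹)
        = h.d t * (s₁ * s₃ * (s₁ * s₂)) * (h.d t)⁻¹ := by group
      _ = h.d t * (s₁ * s₂ * (s₁ * s₃)) * (h.d t)⁻¹ := by rw [this]
      _ = _ := by group
  all_goals
    have e3 : z₁ * (h.d t * (s₁ * s₃) * (h.d t)⁻¹) = h.d t * k * h.u 0 b₃ * (h.d t * k)⁻¹ := by
      rw [← ht1, hs₁,
        show h.d t * h.u 0 b₁ * (h.d t)⁻¹ * (h.d t * (h.u 0 b₁ * s₃) * (h.d t)⁻¹) =
          h.d t * ((h.u 0 b₁ * h.u 0 b₁) * s₃) * (h.d t)⁻¹ by group, hsq, one_mul, hs₃]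
      group
    rw [e3]
  · intro e; exact hb₃0 (h.u_injective ((conj_eq_one_iff.1 e).trans h.u_zero.symm)).2
  · rw [show h.d t * k * h.u 0 b₃ * (h.d t * k)⁻¹ = MulAut.conj (h.d t * k) (h.u 0 b₃) by simp [mul_assoc],
      MulEquiv.orderOf_eq, h.orderOf_z hb₃0]
  · rw [← hk, ← mul_smul (h.d t) k, mul_smul (h.d t * k * h.u 0 b₃), inv_smul_smul, mul_smul, h.u_smul_inf]

theorem not_binRep_odd {H : Subgroup (Cfsg.Sz F m)} (hne : H ≠ ⊥) (hodd : Odd (Nat.card H)) : ¬ BinRep H := by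
  have := h.finite_group
  obtain ⟨g, hgH, hg1, hle⟩ := h.odd_sub hne hodd
  have hgo : Odd (orderOf g) := hodd.of_dvd_nat (Subgroup.orderOf_dvd_natCard H hgH)
  obtain ⟨a, b, c, ha, hb, hc, habc, hba⟩ := h.exists_triangle hg1 hgo
  obtain ⟨ka, hka⟩ := isConj_iff.1 ha
  obtain ⟨kb, hkb⟩ := isConj_iff.1 hb
  obtain ⟨kc, hkc⟩ := isConj_iff.1 hc
  have hconj : ∀ {k a y : Cfsg.Sz F m}, k * g * k⁻¹ = a → k⁻¹ * y * k ∈ H → y ∈ cenOf a := by
    intro k a y e hy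
    show y ∈ Subgroup.centralizer ({a} : Set (Cfsg.Sz F m))
    rw [← e, centralizer_conj, Subgroup.mem_map_equiv, MulAut.conj_symm_apply]
    exact hle hy
  have hTI : ∀ {a y : Cfsg.Sz F m}, IsConj g a → y ∈ cenOf a → y ≠ 1 → cenOf y = cenOf a := by
    intro a y hca hy hy1
    obtain ⟨k, rfl⟩ := isConj_iff.1 hca
    exact h.cenOf_eq (fun e => hg1 (conj_eq_one_iff.1 e))
      (by rwa [show k * g * k⁻¹ = MulAut.conj k g by simp, MulEquiv.orderOf_eq]) hy hy1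
  have hself : ∀ x : Cfsg.Sz F m, x ∈ cenOf x := fun x => Subgroup.mem_centralizer_singleton_iff.2 rfl
  have hne1 : ∀ {a : Cfsg.Sz F m}, IsConj g a → a ≠ 1 := fun {a} hca e => hg1 (by rwa [e, isConj_one_left] at hca)
  refine not_binRep_triangle ka kb kc a b ?_ ?_ ?_ ?_ ?_
  · rwa [show ka⁻¹ * a * ka = g by rw [← hka]; group]
  · rwa [show kb⁻¹ * b * kb = g by rw [← hkb]; group]
  · rwa [show kc⁻¹ * (b⁻¹ * a) * kc = g by rw [habc, inv_mul_cancel_left, ← hkc]; group]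
  · intro y hya hyb
    by_contra hy1
    exact hba (((hTI ha (hconj hka hya) hy1).symm.trans (hTI hb (hconj hkb hyb) hy1)).ge (hself b))
  · intro hac
    have h1 := hTI hc (hconj hkc hac) (hne1 ha)
    have hb' : b = a * c⁻¹ := by rw [habc]; group
    refine hba ?_
    rw [hb']
    exact (cenOf a).mul_mem (hself a) ((cenOf a).inv_mem (h1.ge (hself c)))

end Hyp

end CfsgLib.Suzuki
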