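import Cfsg.Agent.Lib.Suzuki.FixityTwo

/-!
Structure of the normalisers of maximal cyclic subgroups of odd order.
-/

set_option autoImplicit false

namespace CfsgLib.Suzuki

open scoped Pointwise

section Generic

theorem ncard_eq_mul_fibers {α β : Type*} [Finite α] (s : Set α) (f : α → β) (k : ℕ)
    (hk : ∀ a ∈ s, {x | x ∈ s ∧ f x = f a}.ncard = k) : s.ncard = k * (f '' s).ncard := by
  classical
  have : Fintype α := Fintype.ofFinite α
  rw [Set.ncard_eq_toFinset_card', Set.ncard_eq_toFinset_card']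
  rw [Finset.card_eq_sum_card_image f s.toFinset, ← Set.toFinset_image, Finset.sum_const_nat, mul_comm]
  intro b hb
  rw [Set.mem_toFinset] at hb
  obtain ⟨a, ha, rfl⟩ := hb
  rw [← hk a ha, Set.ncard_eq_toFinset_card']
  congr 1
  ext x
  simp

/-- Double counting of the conjugates whose normaliser contains a given element. -/
theorem count_orbit {G : Type*} [Group G] [Finite G] (T : Subgroup G) (x : G) :
    {V : Subgroup G | (∃ c, V = T.map (MulAut.conj c).toMonoidHom) ∧ x ∈ Subgroup.normalizer (V : Set G)}.ncard *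
        Nat.card (Subgroup.normalizer (T : Set G)) =
      Nat.card (Subgroup.centralizer ({x} : Set G)) * {w | w ∈ Subgroup.normalizer (T : Set G) ∧ IsConj x w}.ncard := by
  set N := Subgroup.normalizer (T : Set G) with hN
  set A := {c : G | c⁻¹ * x * c ∈ N} with hA
  have hmem : ∀ c, x ∈ Subgroup.normalizer ((T.map (MulAut.conj c).toMonoidHom : Subgroup G) : Set G) ↔ c ∈ A := by
    intro c
    rw [← Subgroup.map_equiv_normalizer_eq]
    constructor
    · rintro ⟨y, hy, rfl⟩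
      show c⁻¹ * MulAut.conj c y * c ∈ N
      simpa [mul_assoc] using hy
    · exact fun hc => ⟨_, hc, by simp [mul_assoc]⟩
  have h1 : A.ncard = Nat.card N * ((fun c => T.map (MulAut.conj c).toMonoidHom) '' A).ncard := by
    refine ncard_eq_mul_fibers A _ _ fun a ha => ?_
    rw [show {c | c ∈ A ∧ T.map (MulAut.conj c).toMonoidHom = T.map (MulAut.conj a).toMonoidHom} = (a * ·) '' (N : Set G) from ?_,
      Set.ncard_image_of_injective _ (mul_right_injective a)]
    · rw [← Nat.card_coe_set_eq]; rfl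
    · ext c
      constructor
      · rintro ⟨-, hc⟩
        refine ⟨a⁻¹ * c, ?_, by group⟩
        rw [SetLike.mem_coe, hN, Subgroup.mem_normalizer_iff]
        intro y
        have h2 := SetLike.ext_iff.1 hc (c * y * c⁻¹)
        simp only [Subgroup.mem_map_equiv, MulAut.conj_symm_apply] at h2
        rw [show c⁻¹ * (c * y * c⁻¹) * c = y by group,
          show a⁻¹ * (c * y * c⁻¹) * a = a⁻¹ * c * y * (a⁻¹ * c)⁻¹ by group] at h2
        exact h2
      · rintro ⟨n, hn, rfl⟩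
        refine ⟨?_, ?_⟩
        · show (a * n)⁻¹ * x * (a * n) ∈ N
          rw [show (a * n)⁻¹ * x * (a * n) = n⁻¹ * (a⁻¹ * x * a) * n by group]
          exact mul_mem (mul_mem (inv_mem hn) ha) hn
        · ext y
          simp only [Subgroup.mem_map_equiv, MulAut.conj_symm_apply]
          rw [show (a * n)⁻¹ * y * (a * n) = n⁻¹ * (a⁻¹ * y * a) * n⁻¹⁻¹ by group]
          exact ((Subgroup.mem_normalizer_iff.1 (inv_mem hn)) _).symm
  have h2 : A.ncard = Nat.card (Subgroup.centralizer ({x} : Set G)) * ((fun c => c⁻¹ * x * c) '' A).ncard := by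
    refine ncard_eq_mul_fibers A _ _ fun a ha => ?_
    rw [show {c | c ∈ A ∧ c⁻¹ * x * c = a⁻¹ * x * a} = (· * a) '' (Subgroup.centralizer ({x} : Set G) : Set G) from ?_,
      Set.ncard_image_of_injective _ (mul_left_injective a)]
    · rw [← Nat.card_coe_set_eq]; rfl
    · ext c
      constructor
      · rintro ⟨-, hc⟩
        refine ⟨c * a⁻¹, ?_, by group⟩
        rw [SetLike.mem_coe, Subgroup.mem_centralizer_singleton_iff]
        calc c * a⁻¹ * x = c * (a⁻¹ * x * a) * a⁻¹ := by group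
          _ = c * (c⁻¹ * x * c) * a⁻¹ := by rw [hc]
          _ = x * (c * a⁻¹) := by group
      · rintro ⟨n, hn, rfl⟩
        rw [SetLike.mem_coe, Subgroup.mem_centralizer_singleton_iff] at hn
        have he : (n * a)⁻¹ * x * (n * a) = a⁻¹ * x * a := by
          rw [show (n * a)⁻¹ * x * (n * a) = a⁻¹ * n⁻¹ * (x * n) * a by group, ← hn]; group
        exact ⟨by show (n * a)⁻¹ * x * (n * a) ∈ N; rw [he]; exact ha, he⟩
  have e1 : {V : Subgroup G | (∃ c, V = T.map (MulAut.conj c).toMonoidHom) ∧ x ∈ Subgroup.normalizer (V : Set G)} =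
      (fun c => T.map (MulAut.conj c).toMonoidHom) '' A := by
    ext V
    constructor
    · rintro ⟨⟨c, rfl⟩, hx⟩; exact ⟨c, (hmem c).1 hx, rfl⟩
    · rintro ⟨c, hc, rfl⟩; exact ⟨⟨c, rfl⟩, (hmem c).2 hc⟩
  have e2 : {w | w ∈ N ∧ IsConj x w} = (fun c => c⁻¹ * x * c) '' A := by
    ext w
    constructor
    · rintro ⟨hw, hc⟩
      obtain ⟨c, rfl⟩ := isConj_iff.1 hc
      exact ⟨c⁻¹, by show c⁻¹⁻¹ * x * c⁻¹ ∈ N; rwa [inv_inv], by simp⟩
    · rintro ⟨c, hc, rfl⟩
      exact ⟨hc, isConj_iff.2 ⟨c⁻¹, by simp⟩⟩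
  rw [e1, e2, mul_comm, ← h1, h2]

end Generic

variable {F : Type*} [Field F] {m : ℕ}

/-- The maximal cyclic subgroup of an element. -/
abbrev cenOf (g : Cfsg.Sz F m) : Subgroup (Cfsg.Sz F m) := Subgroup.centralizer ({g} : Set (Cfsg.Sz F m))

/-- The normaliser of the maximal cyclic subgroup of an element. -/
abbrev norOf (g : Cfsg.Sz F m) : Subgroup (Cfsg.Sz F m) := Subgroup.normalizer (cenOf g : Set (Cfsg.Sz F m))

namespace Hyp

variable (h : Hyp F m)
include h

theorem order_cases (y : Cfsg.Sz F m) : orderOf y ∣ 4 ∨ Odd (orderOf y) := by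
  rcases eq_or_ne y 1 with rfl | hy
  · exact Or.inl (by simp)
  rcases h.trichotomy hy with ⟨k, a, b, rfl, -⟩ | ⟨k, t, rfl, -⟩ | hfree
  · refine Or.inl (h.orderOf_dvd_of_conj_U (k := k) ?_)
    rw [show k⁻¹ * (k * h.u a b * k⁻¹) * k = h.u a b by group]
    exact h.u_mem_U a b
  · refine Or.inr (Odd.of_dvd_nat (h.card_units ▸ h.card_units_odd) (h.orderOf_dvd_of_conj_H (k := k) ?_))
    rw [show k⁻¹ * (k * h.d t * k⁻¹) * k = h.d t by group]
    exact h.d_mem_H t
  · exact Or.inr ((qq_odd m).of_dvd_nat (h.orderOf_dvd_qq hy hfree))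

theorem isPGroup_of_odd_trivial (P : Subgroup (Cfsg.Sz F m)) (hP : ∀ y ∈ P, Odd (orderOf y) → y = 1) :
    IsPGroup 2 P := by
  rintro ⟨y, hy⟩
  rcases h.order_cases y with h4 | hodd
  · refine ⟨2, Subtype.ext ?_⟩
    show y ^ (2 ^ 2) = 1
    exact orderOf_dvd_iff_pow_eq_one.1 h4
  · exact ⟨0, Subtype.ext (by simpa using hP y hy hodd)⟩

theorem le_stabilizer_of_isPGroup {P : Subgroup (Cfsg.Sz F m)} (hP : IsPGroup 2 P) {x : Cfsg.Sz F m} (hx : x ∈ P)
    (hx1 : x ≠ 1) (hfix : x • oInf F m = oInf F m) :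
    P ≤ MulAction.stabilizer (Cfsg.Sz F m) (oInf F m) := by
  obtain ⟨R, hR⟩ := hP.exists_le_sylow
  obtain ⟨k, hk, -⟩ := h.sylow_eq_iff_fix R
  have hkx := (hk x).1 (hR hx)
  have he : k • oInf F m = oInf F m := by
    have h1 := h.fix_of_conj_mem_U hkx
    obtain ⟨a, b, hab⟩ := hkx
    have hne : h.u a b ≠ 1 := fun e => hx1 (conj'_eq_one (hab.trans e))
    have h2 : h.u a b • (k⁻¹ • oInf F m) = k⁻¹ • oInf F m := by
      rw [← hab, mul_smul, mul_smul, smul_inv_smul, hfix]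
    exact (inv_smul_eq_iff.1 (h.u_fix hne h2)).symm
  intro y hy
  have := h.fix_of_conj_mem_U ((hk y).1 (hR hy))
  rwa [he] at this

theorem coe_tor_data {g : Cfsg.Sz F m} (hg : g ≠ 1) (hgo : Odd (orderOf g)) :
    ∃ e, (e = 2 ∨ e = 4) ∧ Nat.card (norOf g) = e * Nat.card (cenOf g) ∧
      (e = 2 → Nat.card (cenOf g) = 2 ^ (2 * m + 1) - 1) := by
  have := h.finite_group
  rcases h.trichotomy hg with ⟨k, a, b, rfl, hne'⟩ | ⟨k, t, rfl, ht⟩ | hfree
  · exfalso
    have h6 : orderOf (k * h.u a b * k⁻¹) ∣ 4 :=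
      h.orderOf_dvd_of_conj_U (k := k) (by
        rw [show k⁻¹ * (k * h.u a b * k⁻¹) * k = h.u a b by group]; exact h.u_mem_U a b)
    exact hg (orderOf_eq_one_iff.1 (Nat.eq_one_of_dvd_coprimes ((Nat.coprime_two_left.2 hgo).pow_left 2) h6 dvd_rfl))
  · refine ⟨2, Or.inl rfl, ?_, fun _ => ?_⟩ <;> simp only [norOf, cenOf, h.centralizer_conj_d ht]
    · rw [← Subgroup.map_equiv_normalizer_eq, Subgroup.card_map_of_injective (MulAut.conj k).injective,
        Subgroup.card_map_of_injective (MulAut.conj k).injective, h.card_normalizer_H, h.card_H]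
    · rw [Subgroup.card_map_of_injective (MulAut.conj k).injective, h.card_H]
  · exact ⟨4, Or.inr rfl, h.card_normalizer_tor ⟨hg, hfree⟩, by omega⟩

theorem odd_card_cenOf {g : Cfsg.Sz F m} (hg : g ≠ 1) (hgo : Odd (orderOf g)) : Odd (Nat.card (cenOf g)) :=
  h.orders_odd (h.centralizer_card_mem hg hgo)

theorem mem_cenOf_of_odd {g : Cfsg.Sz F m} (hg : g ≠ 1) (hgo : Odd (orderOf g)) {y : Cfsg.Sz F m} (hy : y ∈ norOf g)
    (ho : Odd (orderOf y)) : y ∈ cenOf g := by
  have := h.finite_group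
  obtain ⟨e, he, hN, -⟩ := h.coe_tor_data hg hgo
  have : ((cenOf g).subgroupOf (norOf g)).Normal := Subgroup.normal_in_normalizer
  have hidx : ((cenOf g).subgroupOf (norOf g)).index = e := by
    have h1 := Subgroup.card_mul_index ((cenOf g).subgroupOf (norOf g))
    rw [Nat.card_congr (Subgroup.subgroupOfEquivOfLe Subgroup.le_normalizer).toEquiv, hN, mul_comm] at h1
    exact Nat.eq_of_mul_eq_mul_right Nat.card_pos h1
  have h2 := orderOf_map_dvd (QuotientGroup.mk' ((cenOf g).subgroupOf (norOf g))) ⟨y, hy⟩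
  rw [Subgroup.orderOf_mk] at h2
  have h3 := orderOf_dvd_natCard (QuotientGroup.mk' ((cenOf g).subgroupOf (norOf g)) ⟨y, hy⟩)
  rw [← Subgroup.index, hidx] at h3
  have h4 : e ∣ 2 ^ 2 := by rcases he with rfl | rfl <;> norm_num
  have h5 := orderOf_eq_one_iff.1 (Nat.eq_one_of_dvd_coprimes ((Nat.coprime_two_left.2 ho).pow_left 2) (h3.trans h4) h2)
  exact Subgroup.mem_subgroupOf.1 ((QuotientGroup.eq_one_iff _).1 h5)

theorem cenOf_eq {g y : Cfsg.Sz F m} (hg : g ≠ 1) (hgo : Odd (orderOf g)) (hy : y ∈ cenOf g) (hy1 : y ≠ 1) :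
    cenOf y = cenOf g :=
  (h.odd_spec hg hgo).1 y hy hy1

theorem orderOf_mem_cenOf {g : Cfsg.Sz F m} (hg : g ≠ 1) (hgo : Odd (orderOf g)) {y : Cfsg.Sz F m}
    (hy : y ∈ cenOf g) : Odd (orderOf y) :=
  (h.odd_card_cenOf hg hgo).of_dvd_nat (Subgroup.orderOf_dvd_natCard _ hy)

/-- Two different normalisers meet in a 2-group. -/
theorem inf_le_stabilizer {g g' : Cfsg.Sz F m} (hg : g ≠ 1) (hgo : Odd (orderOf g)) (hg' : g' ≠ 1)
    (hgo' : Odd (orderOf g')) (hne : cenOf g ≠ cenOf g') {x : Cfsg.Sz F m} (hx1 : x ≠ 1)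
    (hfix : x • oInf F m = oInf F m) (hx : x ∈ norOf g) (hx' : x ∈ norOf g') :
    norOf g ⊓ norOf g' ≤ MulAction.stabilizer (Cfsg.Sz F m) (oInf F m) := by
  refine h.le_stabilizer_of_isPGroup (h.isPGroup_of_odd_trivial _ fun y hy hodd => ?_) ⟨hx, hx'⟩ hx1 hfix
  by_contra hy1
  exact hne ((h.cenOf_eq hg hgo (h.mem_cenOf_of_odd hg hgo hy.1 hodd) hy1).symm.trans
    (h.cenOf_eq hg' hgo' (h.mem_cenOf_of_odd hg' hgo' hy.2 hodd) hy1))

theorem inv_spec {g : Cfsg.Sz F m} (hg : g ≠ 1) (hgo : Odd (orderOf g)) {s : Cfsg.Sz F m} (hs : s ∈ norOf g)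
    (hso : orderOf s = 2) {y : Cfsg.Sz F m} (hy : y ∈ cenOf g) : s * y * s⁻¹ = y⁻¹ := by
  have := h.finite_group
  have hcyc := h.isCyclic_centralizer_of_odd hg hgo
  have hsy : s * y * s⁻¹ ∈ cenOf g := (Subgroup.mem_normalizer_iff.1 hs y).1 hy
  let inst : CommGroup (cenOf g) := IsCyclic.commGroup
  have hc : s * y * s⁻¹ * y = y * (s * y * s⁻¹) :=
    congrArg Subtype.val (inst.mul_comm ⟨_, hsy⟩ ⟨y, hy⟩)
  have hss : s * s = 1 := by rw [← pow_two, ← hso, pow_orderOf_eq_one]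
  set v := s * y * s⁻¹ * y with hv
  have hvC : v ∈ Subgroup.centralizer ({s} : Set (Cfsg.Sz F m)) := by
    rw [Subgroup.mem_centralizer_singleton_iff, hv]
    calc s * y * s⁻¹ * y * s = s * y * s⁻¹ * y * (s * s) * s⁻¹ := by group
      _ = s * (y * (s⁻¹ * y * s⁻¹)) := by rw [hss]; group
      _ = s * (y * (s * y * s⁻¹)) := by rw [inv_eq_of_mul_eq_one_right hss]
      _ = s * (s * y * s⁻¹ * y) := by rw [← hc]
  have h1 := (Subgroup.orderOf_dvd_natCard _ hvC)
  rw [h.card_centralizer_involution hso, ← pow_mul] at h1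
  have h2 : v = 1 := orderOf_eq_one_iff.1 (Nat.eq_one_of_dvd_coprimes
    ((Nat.coprime_two_left.2 (h.orderOf_mem_cenOf hg hgo (mul_mem hsy hy))).pow_left _) h1 dvd_rfl)
  exact eq_inv_of_mul_eq_one_left h2

theorem ncard_involutions {g : Cfsg.Sz F m} (hg : g ≠ 1) (hgo : Odd (orderOf g)) :
    {w | w ∈ norOf g ∧ orderOf w = 2}.ncard = Nat.card (cenOf g) := by
  have := h.finite_group
  have : Fact (Nat.Prime 2) := ⟨Nat.prime_two⟩
  obtain ⟨e, he, hN, -⟩ := h.coe_tor_data hg hgo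
  obtain ⟨⟨s, hs⟩, hso⟩ := exists_prime_orderOf_dvd_card' (G := norOf g) 2 (by
    rw [hN]; rcases he with rfl | rfl <;> exact Dvd.dvd.mul_right (by norm_num) _)
  rw [Subgroup.orderOf_mk] at hso
  have hgm : g ∈ cenOf g := Subgroup.mem_centralizer_singleton_iff.2 rfl
  have hss : s * s = 1 := by rw [← pow_two, ← hso, pow_orderOf_eq_one]
  rw [← Nat.card_coe_set_eq]
  refine (Nat.card_congr (Equiv.ofBijective
    (fun y : cenOf g => (⟨s * y, mul_mem hs (Subgroup.le_normalizer y.2), ?_⟩ :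
      ↥{w | w ∈ norOf g ∧ orderOf w = 2})) ⟨?_, ?_⟩)).symm
  · refine orderOf_eq_prime ?_ ?_
    · rw [pow_two, show s * (y : Cfsg.Sz F m) * (s * y) = s * y * s⁻¹ * (s * s) * y by group, hss, mul_one,
        h.inv_spec hg hgo hs hso y.2, inv_mul_cancel]
    · intro e1
      have : s = (y : Cfsg.Sz F m)⁻¹ := eq_inv_of_mul_eq_one_left e1
      have h1 := h.orderOf_mem_cenOf hg hgo (this ▸ inv_mem y.2 : s ∈ cenOf g)
      rw [hso] at h1
      exact absurd h1 (by decide)
  · exact fun y y' e1 => Subtype.ext (mul_left_cancel (congrArg Subtype.val e1))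
  · rintro ⟨w, hw, hwo⟩
    refine ⟨⟨s⁻¹ * w, ?_⟩, Subtype.ext (mul_inv_cancel_left s w)⟩
    rw [Subgroup.mem_centralizer_singleton_iff]
    have h1 := h.inv_spec hg hgo hw hwo hgm
    have h2 := h.inv_spec hg hgo hs hso (inv_mem hgm)
    rw [inv_inv] at h2
    have h3 : s⁻¹ * g⁻¹ * s = g := by
      rw [inv_eq_of_mul_eq_one_right hss]
      rwa [inv_eq_of_mul_eq_one_right hss] at h2
    calc s⁻¹ * w * g = s⁻¹ * (w * g * w⁻¹) * w := by group
      _ = s⁻¹ * g⁻¹ * s * (s⁻¹ * w) := by rw [h1]; group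
      _ = g * (s⁻¹ * w) := by rw [h3]

theorem ncard_order_four {g : Cfsg.Sz F m} (hg : g ≠ 1) (hgo : Odd (orderOf g))
    (hN : Nat.card (norOf g) = 4 * Nat.card (cenOf g)) :
    {w | w ∈ norOf g ∧ orderOf w = 4}.ncard = 2 * Nat.card (cenOf g) := by
  have := h.finite_group
  have he : (norOf g : Set (Cfsg.Sz F m)) = (cenOf g : Set (Cfsg.Sz F m)) ∪
      ({w | w ∈ norOf g ∧ orderOf w = 2} ∪ {w | w ∈ norOf g ∧ orderOf w = 4}) := by
    ext w
    constructor
    · intro hw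
      rcases h.order_cases w with h4 | hodd
      · obtain ⟨i, hi, hio⟩ := (Nat.dvd_prime_pow Nat.prime_two).1 (show orderOf w ∣ 2 ^ 2 from h4)
        match i, hi, hio with
        | 0, _, hio => exact Or.inl (by rw [(orderOf_eq_one_iff.1 (by simpa using hio) : w = 1)]; exact one_mem _)
        | 1, _, hio => exact Or.inr (Or.inl ⟨hw, by simpa using hio⟩)
        | 2, _, hio => exact Or.inr (Or.inr ⟨hw, by simpa using hio⟩)
        | (_ + 3), hi, _ => omega
      · exact Or.inl (h.mem_cenOf_of_odd hg hgo hw hodd)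
    · rintro (hw | hw | hw)
      · exact Subgroup.le_normalizer hw
      · exact hw.1
      · exact hw.1
  have h1 := congrArg Set.ncard he
  rw [Set.ncard_union_eq, Set.ncard_union_eq, ← Nat.card_coe_set_eq, ← Nat.card_coe_set_eq (cenOf g : Set (Cfsg.Sz F m)),
    h.ncard_involutions hg hgo] at h1
  · change Nat.card (norOf g) = Nat.card (cenOf g) + _ at h1
    omega
  · rw [Set.disjoint_left]; rintro w ⟨-, h2⟩ ⟨-, h4⟩; omega
  · rw [Set.disjoint_left]
    rintro w hw (⟨-, h2⟩ | ⟨-, h4⟩)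
    · have := h.orderOf_mem_cenOf hg hgo hw; rw [h2] at this; exact absurd this (by decide)
    · have := h.orderOf_mem_cenOf hg hgo hw; rw [h4] at this; exact absurd this (by decide)

/-- The part of a normaliser inside a point stabiliser. -/
theorem card_norOf_inf {g : Cfsg.Sz F m} (hg : g ≠ 1) (hgo : Odd (orderOf g)) {x : Cfsg.Sz F m}
    (hxU : x ∈ h.U) (hx : x ∈ norOf g) {e : ℕ} (he : e = 2 ∨ e = 4)
    (hN : Nat.card (norOf g) = e * Nat.card (cenOf g)) (hxo : orderOf x = 2 ∨ orderOf x = 4) :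
    Nat.card (norOf g ⊓ MulAction.stabilizer (Cfsg.Sz F m) (oInf F m) : Subgroup (Cfsg.Sz F m)) = e := by
  have := h.finite_group
  have : Fact (Nat.Prime 2) := ⟨Nat.prime_two⟩
  set P : Subgroup (Cfsg.Sz F m) := norOf g ⊓ MulAction.stabilizer (Cfsg.Sz F m) (oInf F m) with hP
  have hx1 : x ≠ 1 := fun e1 => by rw [e1, orderOf_one] at hxo; omega
  have hP2 : IsPGroup 2 P := by
    refine h.isPGroup_of_odd_trivial P fun y hy hodd => ?_
    by_contra hy1
    have hyC := h.mem_cenOf_of_odd hg hgo hy.1 hodd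
    have hw : x * y * x⁻¹ * y⁻¹ ∈ cenOf g :=
      mul_mem ((Subgroup.mem_normalizer_iff.1 hx y).1 hyC) (inv_mem hyC)
    have hwU : x * y * x⁻¹ * y⁻¹ ∈ h.U := by
      rw [show x * y * x⁻¹ * y⁻¹ = x * (y * x⁻¹ * y⁻¹) by group]
      exact mul_mem hxU (h.conj_mem_U hy.2 (inv_mem hxU))
    have h1 : x * y * x⁻¹ * y⁻¹ = 1 := orderOf_eq_one_iff.1 (Nat.eq_one_of_dvd_coprimes
      ((Nat.coprime_two_left.2 (h.orderOf_mem_cenOf hg hgo hw)).pow_left 2)
      (h.orderOf_dvd_of_conj_U (k := 1) (by simpa using hwU)) dvd_rfl)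
    have hyx : y ∈ Subgroup.centralizer ({x} : Set (Cfsg.Sz F m)) := by
      rw [Subgroup.mem_centralizer_singleton_iff]
      rw [mul_inv_eq_one, mul_inv_eq_iff_eq_mul] at h1
      exact h1.symm
    obtain ⟨a, b, rfl⟩ := id hxU
    have hyU := h.centralizer_u_le hx1 hyx
    exact hy1 (orderOf_eq_one_iff.1 (Nat.eq_one_of_dvd_coprimes ((Nat.coprime_two_left.2 hodd).pow_left 2)
      (h.orderOf_dvd_of_conj_U (k := 1) (by simpa using hyU)) dvd_rfl))
  refine le_antisymm ?_ ?_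
  · obtain ⟨i, hi⟩ := IsPGroup.iff_card.1 hP2
    have h1 := Subgroup.card_dvd_of_le (show P ≤ norOf g from inf_le_left)
    rw [hN, hi] at h1
    rw [hi]
    exact Nat.le_of_dvd (by omega)
      (((Nat.coprime_two_left.2 (h.odd_card_cenOf hg hgo)).pow_left i).dvd_of_dvd_mul_right h1)
  · have hxP : x ∈ P := ⟨hx, h.mem_U_fix hxU⟩
    rcases hxo with h2 | h4
    · -- the centraliser of the involution
      obtain ⟨a, b, rfl⟩ := id hxU
      have ha : a = 0 := by
        by_contra ha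
        rw [h.orderOf_u ha] at h2; omega
      subst ha
      have hb : b ≠ 0 := fun e1 => hx1 (by rw [e1, h.u_zero])
      have h1 := ncard_eq_mul_fibers (norOf g : Set (Cfsg.Sz F m)) (fun c => c⁻¹ * h.u 0 b * c)
        (Nat.card (norOf g ⊓ h.U : Subgroup (Cfsg.Sz F m))) fun a ha => by
          rw [← h.centralizer_z hb,
            show {c | c ∈ (norOf g : Set (Cfsg.Sz F m)) ∧ c⁻¹ * h.u 0 b * c = a⁻¹ * h.u 0 b * a} =
              (· * a) '' ((norOf g ⊓ Subgroup.centralizer ({h.u 0 b} : Set (Cfsg.Sz F m)) : Subgroup (Cfsg.Sz F m)) : Set (Cfsg.Sz F m)) from ?_,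
            Set.ncard_image_of_injective _ (mul_left_injective a)]
          · rw [← Nat.card_coe_set_eq]; rfl
          · ext c
            constructor
            · rintro ⟨hc, hce⟩
              refine ⟨c * a⁻¹, ⟨(norOf g).mul_mem hc ((norOf g).inv_mem ha), ?_⟩, by group⟩
              refine Subgroup.mem_centralizer_singleton_iff.2 ?_
              calc c * a⁻¹ * h.u 0 b = c * (a⁻¹ * h.u 0 b * a) * a⁻¹ := by group
                _ = c * (c⁻¹ * h.u 0 b * c) * a⁻¹ := by rw [hce]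
                _ = h.u 0 b * (c * a⁻¹) := by group
            · rintro ⟨n, ⟨hn, hn'⟩, rfl⟩
              replace hn' := Subgroup.mem_centralizer_singleton_iff.1 hn'
              refine ⟨mul_mem (SetLike.mem_coe.1 hn) (SetLike.mem_coe.1 ha), ?_⟩
              show (n * a)⁻¹ * h.u 0 b * (n * a) = _
              rw [show (n * a)⁻¹ * h.u 0 b * (n * a) = a⁻¹ * n⁻¹ * (h.u 0 b * n) * a by group, ← hn']; group
      have h3 : ((fun c => c⁻¹ * h.u 0 b * c) '' (norOf g : Set (Cfsg.Sz F m))).ncard ≤ Nat.card (cenOf g) := by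
        rw [← h.ncard_involutions hg hgo]
        refine Set.ncard_le_ncard ?_
        rintro _ ⟨c, hc, rfl⟩
        refine ⟨mul_mem (mul_mem (inv_mem hc) hx) hc, ?_⟩
        show orderOf (c⁻¹ * h.u 0 b * c) = 2
        rw [show c⁻¹ * h.u 0 b * c = MulAut.conj c⁻¹ (h.u 0 b) by simp, MulEquiv.orderOf_eq, h.orderOf_z hb]
      have h4 : Nat.card (norOf g ⊓ h.U : Subgroup (Cfsg.Sz F m)) ≤ Nat.card P :=
        Subgroup.card_le_of_le (inf_le_inf_left _ fun u hu => h.mem_U_fix hu)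
      rw [← Nat.card_coe_set_eq] at h1
      change Nat.card (norOf g) = _ at h1
      rw [hN] at h1
      refine le_trans ?_ h4
      refine Nat.le_of_mul_le_mul_right (h1.le.trans (Nat.mul_le_mul_left _ h3)) Nat.card_pos
    · have h1 := Subgroup.orderOf_dvd_natCard P hxP
      rw [h4] at h1
      have := Nat.le_of_dvd Nat.card_pos h1
      omega

end Hyp

end CfsgLib.Suzuki
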