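import Cfsg.Agent.Lib.Suzuki.NormTor

/-!
Solubilizers in a Suzuki group over a field of prime degree.
-/

set_option autoImplicit false

namespace CfsgLib.Suzuki

open scoped Pointwise

/-- The solubilizer of an element. -/
def sol {G : Type*} [Group G] (x : G) : Set G :=
  {y | Group.IsSolvable ↥(Subgroup.closure ({x, y} : Set G))}

theorem isSolvable_congr_map {G H : Type*} [Group G] [Group H] (e : G ≃* H) (K : Subgroup G) :
    Group.IsSolvable ↥(K.map e.toMonoidHom) ↔ Group.IsSolvable ↥K := by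
  constructor
  · intro
    exact Group.isSolvable_of_isSolvable_injective (f := (K.equivMapOfInjective e.toMonoidHom e.injective).toMonoidHom)
      (MulEquiv.injective _)
  · intro
    exact Group.isSolvable_of_surjective (f := (K.equivMapOfInjective e.toMonoidHom e.injective).toMonoidHom)
      (MulEquiv.surjective _)

theorem sol_map {G H : Type*} [Group G] [Group H] (e : G ≃* H) (x : G) : sol (e x) = e '' sol x := by
  have key : ∀ y, e y ∈ sol (e x) ↔ y ∈ sol x := by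
    intro y
    show Group.IsSolvable ↥(Subgroup.closure ({e x, e y} : Set H)) ↔ _
    rw [show Subgroup.closure ({e x, e y} : Set H) = (Subgroup.closure ({x, y} : Set G)).map e.toMonoidHom by
      rw [MonoidHom.map_closure, Set.image_pair]; rfl, isSolvable_congr_map]
    rfl
  ext z
  constructor
  · intro hz
    exact ⟨e.symm z, (key _).1 (by rwa [e.apply_symm_apply]), e.apply_symm_apply z⟩
  · rintro ⟨y, hy, rfl⟩; exact (key y).2 hy

theorem ncard_sol_map {G H : Type*} [Group G] [Group H] (e : G ≃* H) (x : G) :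
    (sol (e x)).ncard = (sol x).ncard := by
  rw [sol_map, Set.ncard_image_of_injective _ e.injective]

variable {F : Type*} [Field F] {m : ℕ}

/-- The conjugates of the torus of `r` whose normaliser contains `x`. -/
def orbS (r x : Cfsg.Sz F m) : Set (Subgroup (Cfsg.Sz F m)) :=
  {V | (∃ c, V = (cenOf r).map (MulAut.conj c).toMonoidHom) ∧ x ∈ Subgroup.normalizer (V : Set (Cfsg.Sz F m))}

namespace Hyp

variable (h : Hyp F m)
include h

theorem isSolvable_stabilizer (p : Cfsg.suzukiOvoid F m) :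
    Group.IsSolvable ↥(MulAction.stabilizer (Cfsg.Sz F m) p) := by
  obtain ⟨g, rfl⟩ := h.exists_smul_inf_eq p
  rw [MulAction.stabilizer_smul_eq_stabilizer_map_conj, isSolvable_congr_map]
  set B := MulAction.stabilizer (Cfsg.Sz F m) (oInf F m) with hB
  have hex : ∀ x : B, ∃ t a b, (x : Cfsg.Sz F m) = h.u a b * h.d t := fun x => by
    obtain ⟨a, b, t, he⟩ := h.eq_u_mul_d (MulAction.mem_stabilizer_iff.1 x.2)
    exact ⟨t, a, b, he⟩
  choose τ a b hτ using hex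
  have hmul : ∀ x y, τ (x * y) = τ x * τ y := by
    intro x y
    have h1 := hτ (x * y)
    push_cast at h1
    rw [hτ x, hτ y, show h.u (a x) (b x) * h.d (τ x) * (h.u (a y) (b y) * h.d (τ y)) =
      h.u (a x) (b x) * (h.d (τ x) * h.u (a y) (b y) * (h.d (τ x))⁻¹) * (h.d (τ x) * h.d (τ y)) by group,
      h.d_u, h.u_mul, h.d_mul] at h1
    exact (h.ud_injective h1).2.2.symm
  let f : B →* Fˣ := MonoidHom.mk' τ hmul
  have : Fact (Nat.Prime 2) := ⟨Nat.prime_two⟩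
  have := h.finite_group
  have : Group.IsNilpotent h.U := h.isPGroup_U.isNilpotent
  refine Group.isSolvable_of_ker_le_range (Subgroup.inclusion (fun u hu => h.mem_U_fix hu : h.U ≤ B)) f ?_
  intro x hx
  refine ⟨⟨x, ?_⟩, Subtype.ext rfl⟩
  rw [MonoidHom.mem_ker] at hx
  rw [hτ x, show τ x = 1 from hx, h.d_one, mul_one]
  exact h.u_mem_U _ _

theorem isSolvable_norOf {g : Cfsg.Sz F m} (hg : g ≠ 1) (hgo : Odd (orderOf g)) :
    Group.IsSolvable ↥(norOf g) := by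
  have := h.finite_group
  have : Fact (Nat.Prime 2) := ⟨Nat.prime_two⟩
  obtain ⟨e, he, hN, -⟩ := h.coe_tor_data hg hgo
  set T := (cenOf g).subgroupOf (norOf g) with hT
  have : T.Normal := Subgroup.normal_in_normalizer
  have hidx : T.index = e := by
    have h1 := Subgroup.card_mul_index T
    rw [Nat.card_congr (Subgroup.subgroupOfEquivOfLe Subgroup.le_normalizer).toEquiv, hN, mul_comm] at h1
    exact Nat.eq_of_mul_eq_mul_right Nat.card_pos h1
  have hq : IsPGroup 2 (norOf g ⧸ T) := by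
    obtain ⟨i, hi⟩ : ∃ i, e = 2 ^ i := by
      rcases he with rfl | rfl
      · exact ⟨1, rfl⟩
      · exact ⟨2, rfl⟩
    exact IsPGroup.of_card (n := i) (by rw [← Subgroup.index, hidx, hi])
  have : Group.IsNilpotent (norOf g ⧸ T) := hq.isNilpotent
  have := h.isCyclic_centralizer_of_odd hg hgo
  let inst : CommGroup (cenOf g) := IsCyclic.commGroup
  have hTs : Group.IsSolvable ↥T :=
    Group.isSolvable_of_isSolvable_injective
      (f := (Subgroup.subgroupOfEquivOfLe (Subgroup.le_normalizer (H := cenOf g))).toMonoidHom) (MulEquiv.injective _)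
  exact (Group.isSolvable_iff_subgroup_quotient T).2 ⟨hTs, inferInstance⟩

/-- Solvable two-generated subgroups lie in a point stabiliser or in a torus normaliser. -/
theorem mem_sol_iff (hp : (2 * m + 1).Prime) {x y : Cfsg.Sz F m} :
    y ∈ sol x ↔ (∃ p : Cfsg.suzukiOvoid F m, x • p = p ∧ y • p = p) ∨
      ∃ g, g ≠ 1 ∧ Odd (orderOf g) ∧ x ∈ norOf g ∧ y ∈ norOf g := by
  have := h.finite_group
  set M := Subgroup.closure ({x, y} : Set (Cfsg.Sz F m)) with hM
  have hxM : x ∈ M := Subgroup.subset_closure (by simp)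
  have hyM : y ∈ M := Subgroup.subset_closure (by simp)
  constructor
  · intro hsol
    have hsol' : Group.IsSolvable ↥M := hsol
    rcases h.sub_classify M with ⟨p, hle⟩ | ⟨g, hg, hgo, hle⟩ | ⟨k, c, hk, hdiv, hor, -⟩
    · exact Or.inl ⟨p, hle hxM, hle hyM⟩
    · exact Or.inr ⟨g, hg, hgo, hle hxM, hle hyM⟩
    · exfalso
      have hkm : k = m := by
        rcases hp.eq_one_or_self_of_dvd _ hdiv with e | e <;> omega
      have htop : M = ⊤ := hor.resolve_left (by omega)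
      rw [htop] at hsol'
      have := h.nontrivial_group
      have : Group.IsSolvable (Cfsg.Sz F m) :=
        Group.isSolvable_of_surjective (f := (Subgroup.topEquiv (G := Cfsg.Sz F m)).toMonoidHom) (MulEquiv.surjective _)
      exact (Group.IsSolvable.commutator_lt_top_of_nontrivial (Cfsg.Sz F m)).ne h.perfect
  · intro hcases
    show Group.IsSolvable ↥M
    rcases hcases with ⟨p, hx, hy⟩ | ⟨g, hg, hgo, hx, hy⟩
    · have := h.isSolvable_stabilizer p
      have hle : M ≤ MulAction.stabilizer (Cfsg.Sz F m) p := (Subgroup.closure_le _).2 (by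
        rintro z (rfl | rfl)
        · exact hx
        · exact hy)
      exact Group.isSolvable_of_isSolvable_injective (f := Subgroup.inclusion hle) (Subgroup.inclusion_injective hle)
    · have := h.isSolvable_norOf hg hgo
      have hle : M ≤ norOf g := (Subgroup.closure_le _).2 (by
        rintro z (rfl | rfl)
        · exact hx
        · exact hy)
      exact Group.isSolvable_of_isSolvable_injective (f := Subgroup.inclusion hle) (Subgroup.inclusion_injective hle)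

/-- Representatives of the three classes of maximal cyclic subgroups of odd order. -/
theorem three_reps :
    ∃ r₀ r₁ r₂ : Cfsg.Sz F m,
      (r₀ ≠ 1 ∧ Odd (orderOf r₀) ∧ Nat.card (cenOf r₀) = 2 ^ (2 * m + 1) - 1 ∧
        Nat.card (norOf r₀) = 2 * Nat.card (cenOf r₀)) ∧
      (r₁ ≠ 1 ∧ Odd (orderOf r₁) ∧ Nat.card (cenOf r₁) = 2 ^ (2 * m + 1) + 2 ^ (m + 1) + 1 ∧
        Nat.card (norOf r₁) = 4 * Nat.card (cenOf r₁)) ∧
      (r₂ ≠ 1 ∧ Odd (orderOf r₂) ∧ Nat.card (cenOf r₂) = 2 ^ (2 * m + 1) - 2 ^ (m + 1) + 1 ∧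
        Nat.card (norOf r₂) = 4 * Nat.card (cenOf r₂)) ∧
      ∀ g : Cfsg.Sz F m, g ≠ 1 → Odd (orderOf g) →
        ∃ c, cenOf g = (cenOf r₀).map (MulAut.conj c).toMonoidHom ∨
          cenOf g = (cenOf r₁).map (MulAut.conj c).toMonoidHom ∨
          cenOf g = (cenOf r₂).map (MulAut.conj c).toMonoidHom := by
  have := h.finite_group
  obtain ⟨g₁, g₂, hg₁, hg₂, c1, c2, n1, n2, hall⟩ := h.two_tori
  obtain ⟨t, ht⟩ := h.exists_ne_one_H
  have ho : ∀ {g : Cfsg.Sz F m}, g ∈ freeSet F m → Odd (orderOf g) := fun {g} hg =>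
    (qq_odd m).of_dvd_nat (h.orderOf_dvd_qq hg.1 hg.2)
  refine ⟨h.d t, g₁, g₂, ⟨h.d_ne_one ht, ?_, ?_, ?_⟩, ⟨hg₁.1, ho hg₁, c1, n1⟩, ⟨hg₂.1, ho hg₂, c2, n2⟩, ?_⟩
  · exact Odd.of_dvd_nat (h.card_units ▸ h.card_units_odd) (h.orderOf_dvd_of_conj_H (k := 1) (by simpa using h.d_mem_H t))
  · rw [cenOf, h.centralizer_d ht, h.card_H]
  · rw [norOf, cenOf, h.centralizer_d ht, h.card_normalizer_H, h.card_H]
  intro g hg hgo
  rcases h.trichotomy hg with ⟨k, a, b, rfl, hne⟩ | ⟨k, s, rfl, hs⟩ | hfree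
  · exfalso
    have h4 : orderOf (k * h.u a b * k⁻¹) ∣ 4 :=
      h.orderOf_dvd_of_conj_U (k := k) (by
        rw [show k⁻¹ * (k * h.u a b * k⁻¹) * k = h.u a b by group]; exact h.u_mem_U a b)
    exact hg (orderOf_eq_one_iff.1 (Nat.eq_one_of_dvd_coprimes ((Nat.coprime_two_left.2 hgo).pow_left 2) h4 dvd_rfl))
  · exact ⟨k, Or.inl (by rw [cenOf, cenOf, h.centralizer_conj_d hs, h.centralizer_d ht])⟩
  · have hx : g ∈ freeSet F m := ⟨hg, hfree⟩
    rw [hall] at hx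
    rcases hx with ⟨-, k, hk⟩ | ⟨-, k, hk⟩
    · refine ⟨k, Or.inr (Or.inl ?_)⟩
      rw [cenOf, cenOf, ← (h.torus_spec hg₁.1 hg₁.2).2.2 _ hk (fun e => hg (conj'_eq_one e)), ← centralizer_conj,
        show k * (k⁻¹ * g * k) * k⁻¹ = g by group]
    · refine ⟨k, Or.inr (Or.inr ?_)⟩
      rw [cenOf, cenOf, ← (h.torus_spec hg₂.1 hg₂.2).2.2 _ hk (fun e => hg (conj'_eq_one e)), ← centralizer_conj,
        show k * (k⁻¹ * g * k) * k⁻¹ = g by group]

theorem orbS_spec {r x : Cfsg.Sz F m} (hr : r ≠ 1) (hro : Odd (orderOf r)) {e : ℕ}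
    (hN : Nat.card (norOf r) = e * Nat.card (cenOf r)) {V : Subgroup (Cfsg.Sz F m)} (hV : V ∈ orbS r x) :
    ∃ g, g ≠ 1 ∧ Odd (orderOf g) ∧ V = cenOf g ∧ Nat.card (cenOf g) = Nat.card (cenOf r) ∧
      Nat.card (norOf g) = e * Nat.card (cenOf g) ∧ x ∈ norOf g := by
  obtain ⟨⟨c, rfl⟩, hx⟩ := hV
  have he : cenOf (c * r * c⁻¹) = (cenOf r).map (MulAut.conj c).toMonoidHom := centralizer_conj c r
  have hc : Nat.card (cenOf (c * r * c⁻¹)) = Nat.card (cenOf r) := by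
    rw [he, Subgroup.card_map_of_injective (MulAut.conj c).injective]
  refine ⟨c * r * c⁻¹, fun e1 => hr (conj_eq_one_iff.1 e1), ?_, he.symm, hc, ?_, ?_⟩
  · rwa [show c * r * c⁻¹ = MulAut.conj c r by simp, MulEquiv.orderOf_eq]
  · rw [hc, ← hN, norOf, he, ← Subgroup.map_equiv_normalizer_eq,
      Subgroup.card_map_of_injective (MulAut.conj c).injective]
  · rw [norOf, he]; exact hx

/-- The solubilizer of a 2-element fixing infinity. -/
theorem ncard_sol_two (hp : (2 * m + 1).Prime) {x : Cfsg.Sz F m} (hxU : x ∈ h.U)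
    (hxo : orderOf x = 2 ∨ orderOf x = 4) {r₀ r₁ r₂ : Cfsg.Sz F m}
    (hr₀ : r₀ ≠ 1 ∧ Odd (orderOf r₀) ∧ Nat.card (cenOf r₀) = 2 ^ (2 * m + 1) - 1 ∧
      Nat.card (norOf r₀) = 2 * Nat.card (cenOf r₀))
    (hr₁ : r₁ ≠ 1 ∧ Odd (orderOf r₁) ∧ Nat.card (cenOf r₁) = 2 ^ (2 * m + 1) + 2 ^ (m + 1) + 1 ∧
      Nat.card (norOf r₁) = 4 * Nat.card (cenOf r₁))
    (hr₂ : r₂ ≠ 1 ∧ Odd (orderOf r₂) ∧ Nat.card (cenOf r₂) = 2 ^ (2 * m + 1) - 2 ^ (m + 1) + 1 ∧
      Nat.card (norOf r₂) = 4 * Nat.card (cenOf r₂))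
    (hall : ∀ g : Cfsg.Sz F m, g ≠ 1 → Odd (orderOf g) →
      ∃ c, cenOf g = (cenOf r₀).map (MulAut.conj c).toMonoidHom ∨
        cenOf g = (cenOf r₁).map (MulAut.conj c).toMonoidHom ∨
        cenOf g = (cenOf r₂).map (MulAut.conj c).toMonoidHom) :
    (sol x).ncard = (2 ^ (2 * m + 1)) ^ 2 * (2 ^ (2 * m + 1) - 1) +
      (orbS r₀ x).ncard * (2 * (Nat.card (cenOf r₀) - 1)) +
      (orbS r₁ x).ncard * (4 * (Nat.card (cenOf r₁) - 1)) +
      (orbS r₂ x).ncard * (4 * (Nat.card (cenOf r₂) - 1)) := by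
  classical
  have := h.finite_group
  have : Fintype (Cfsg.Sz F m) := Fintype.ofFinite _
  have : Fintype (Subgroup (Cfsg.Sz F m)) := Fintype.ofFinite _
  have hx1 : x ≠ 1 := fun e1 => by rw [e1, orderOf_one] at hxo; omega
  have hxf := h.mem_U_fix hxU
  set B := MulAction.stabilizer (Cfsg.Sz F m) (oInf F m) with hB
  let D : Subgroup (Cfsg.Sz F m) → Set (Cfsg.Sz F m) :=
    fun V => (Subgroup.normalizer (V : Set (Cfsg.Sz F m)) : Set (Cfsg.Sz F m)) \ (B : Set (Cfsg.Sz F m))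
  set S := (orbS r₀ x ∪ orbS r₁ x) ∪ orbS r₂ x with hS
  have hspec : ∀ V ∈ S, ∃ g, g ≠ 1 ∧ Odd (orderOf g) ∧ V = cenOf g ∧ x ∈ norOf g := by
    rintro V ((hV | hV) | hV)
    · obtain ⟨g, a, b, c, -, -, d⟩ := h.orbS_spec hr₀.1 hr₀.2.1 hr₀.2.2.2 hV; exact ⟨g, a, b, c, d⟩
    · obtain ⟨g, a, b, c, -, -, d⟩ := h.orbS_spec hr₁.1 hr₁.2.1 hr₁.2.2.2 hV; exact ⟨g, a, b, c, d⟩
    · obtain ⟨g, a, b, c, -, -, d⟩ := h.orbS_spec hr₂.1 hr₂.2.1 hr₂.2.2.2 hV; exact ⟨g, a, b, c, d⟩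
  have hsol : sol x = (B : Set (Cfsg.Sz F m)) ∪ ⋃ V ∈ S, D V := by
    ext y
    simp only [Set.mem_union, SetLike.mem_coe, Set.mem_iUnion₂]
    rw [h.mem_sol_iff hp]
    constructor
    · rintro (⟨p, hxp, hyp⟩ | ⟨g, hg, hgo, hxg, hyg⟩)
      · obtain ⟨a, b, rfl⟩ := id hxU
        rw [h.u_fix hx1 hxp] at hyp
        exact Or.inl hyp
      · by_cases hyB : y ∈ B
        · exact Or.inl hyB
        refine Or.inr ⟨cenOf g, ?_, hyg, hyB⟩
        obtain ⟨c, hc | hc | hc⟩ := hall g hg hgo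
        · exact Or.inl (Or.inl ⟨⟨c, hc⟩, hxg⟩)
        · exact Or.inl (Or.inr ⟨⟨c, hc⟩, hxg⟩)
        · exact Or.inr ⟨⟨c, hc⟩, hxg⟩
    · rintro (hy | ⟨V, hV, hyV, -⟩)
      · exact Or.inl ⟨oInf F m, hxf, hy⟩
      · obtain ⟨g, hg, hgo, rfl, hxg⟩ := hspec V hV
        exact Or.inr ⟨g, hg, hgo, hxg, hyV⟩
  have hdisj : S.PairwiseDisjoint D := by
    intro V hV W hW hne
    obtain ⟨g, hg, hgo, rfl, hxg⟩ := hspec V hV
    obtain ⟨g', hg', hgo', rfl, hxg'⟩ := hspec W hW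
    show Disjoint (D (cenOf g)) (D (cenOf g'))
    rw [Set.disjoint_left]
    rintro y ⟨hy, hyB⟩ ⟨hy', -⟩
    exact hyB (h.inf_le_stabilizer hg hgo hg' hgo' hne hx1 hxf hxg hxg' ⟨hy, hy'⟩)
  have hD : ∀ {r : Cfsg.Sz F m} {e : ℕ}, r ≠ 1 → Odd (orderOf r) → (e = 2 ∨ e = 4) →
      Nat.card (norOf r) = e * Nat.card (cenOf r) → ∀ V ∈ orbS r x,
      (D V).toFinset.card = e * (Nat.card (cenOf r) - 1) := by
    intro r e hr hro he hN V hV
    obtain ⟨g, hg, hgo, rfl, hc, hNg, hxg⟩ := h.orbS_spec hr hro hN hV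
    rw [← Set.ncard_eq_toFinset_card']
    show ((norOf g : Set (Cfsg.Sz F m)) \ (B : Set (Cfsg.Sz F m))).ncard = _
    rw [← Set.sdiff_inter_self_eq_sdiff, Set.ncard_sdiff Set.inter_subset_right]
    have h1 := h.card_norOf_inf hg hgo hxU hxg he hNg hxo
    rw [← Nat.card_coe_set_eq, ← Nat.card_coe_set_eq]
    rw [show Nat.card ↥((B : Set (Cfsg.Sz F m)) ∩ (norOf g : Set (Cfsg.Sz F m))) =
      Nat.card (norOf g ⊓ B : Subgroup (Cfsg.Sz F m)) by rw [Set.inter_comm]; rfl, h1]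
    show Nat.card (norOf g) - e = _
    rw [hNg, hc, Nat.mul_sub, mul_one]
  have hBd : Disjoint (B : Set (Cfsg.Sz F m)) (⋃ V ∈ S, D V) := by
    simp only [Set.disjoint_left, Set.mem_iUnion₂]
    rintro y hy ⟨V, -, -, hyB⟩
    exact hyB hy
  rw [hsol, Set.ncard_union_eq hBd]
  have hBc : (B : Set (Cfsg.Sz F m)).ncard = (2 ^ (2 * m + 1)) ^ 2 * (2 ^ (2 * m + 1) - 1) := by
    rw [← Nat.card_coe_set_eq]; exact h.card_stabilizer_inf
  rw [hBc]
  have hU : (⋃ V ∈ S, D V).toFinset = S.toFinset.biUnion (fun V => (D V).toFinset) := by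
    ext y; simp
  have hcards : ∀ {r r' : Cfsg.Sz F m}, r ≠ 1 → r' ≠ 1 → Nat.card (cenOf r) ≠ Nat.card (cenOf r') →
      Disjoint (orbS r x) (orbS r' x) := by
    intro r r' _ _ hne
    rw [Set.disjoint_left]
    rintro V ⟨⟨c, hc⟩, -⟩ ⟨⟨c', hc'⟩, -⟩
    apply hne
    rw [← Subgroup.card_map_of_injective (K := cenOf r) (f := (MulAut.conj c).toMonoidHom) (MulAut.conj c).injective,
      ← Subgroup.card_map_of_injective (K := cenOf r') (f := (MulAut.conj c').toMonoidHom) (MulAut.conj c').injective]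
    exact congrArg (fun K : Subgroup (Cfsg.Sz F m) => Nat.card K) (hc.symm.trans hc')
  have hne01 : Nat.card (cenOf r₀) ≠ Nat.card (cenOf r₁) := by
    rw [hr₀.2.2.1, hr₁.2.2.1]
    have := Nat.two_pow_pos (2 * m + 1)
    generalize 2 ^ (2 * m + 1) = q, 2 ^ (m + 1) = r at *
    omega
  have hne02 : Nat.card (cenOf r₀) ≠ Nat.card (cenOf r₂) := by
    rw [hr₀.2.2.1, hr₂.2.2.1]
    have : 2 ^ (m + 1) ≥ 4 := le_trans (by norm_num) (Nat.pow_le_pow_right (by norm_num : 0 < 2) (by have := h.one_le; omega : 2 ≤ m + 1))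
    have : 2 ^ (m + 1) ≤ 2 ^ (2 * m + 1) := Nat.pow_le_pow_right (by norm_num) (by omega)
    omega
  have hne12 : Nat.card (cenOf r₁) ≠ Nat.card (cenOf r₂) := by
    rw [hr₁.2.2.1, hr₂.2.2.1]
    have := Nat.two_pow_pos (m + 1)
    have : 2 ^ (m + 1) ≤ 2 ^ (2 * m + 1) := Nat.pow_le_pow_right (by norm_num) (by omega)
    generalize 2 ^ (2 * m + 1) = q, 2 ^ (m + 1) = r at *
    omega
  rw [Set.ncard_eq_toFinset_card' (⋃ V ∈ S, D V), hU, Finset.card_biUnion]
  · rw [show S.toFinset = ((orbS r₀ x).toFinset ∪ (orbS r₁ x).toFinset) ∪ (orbS r₂ x).toFinset by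
        ext V; simp [hS],
      Finset.sum_union, Finset.sum_union,
      Finset.sum_const_nat (m := 2 * (Nat.card (cenOf r₀) - 1)),
      Finset.sum_const_nat (m := 4 * (Nat.card (cenOf r₁) - 1)),
      Finset.sum_const_nat (m := 4 * (Nat.card (cenOf r₂) - 1))]
    · simp only [← Set.ncard_eq_toFinset_card']; ring
    · exact fun V hV => hD hr₂.1 hr₂.2.1 (Or.inr rfl) hr₂.2.2.2 V (Set.mem_toFinset.1 hV)
    · exact fun V hV => hD hr₁.1 hr₁.2.1 (Or.inr rfl) hr₁.2.2.2 V (Set.mem_toFinset.1 hV)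
    · exact fun V hV => hD hr₀.1 hr₀.2.1 (Or.inl rfl) hr₀.2.2.2 V (Set.mem_toFinset.1 hV)
    · exact Set.disjoint_toFinset.2 (hcards hr₀.1 hr₁.1 hne01)
    · rw [← Set.toFinset_union, Set.disjoint_toFinset]
      exact Set.disjoint_union_left.2 ⟨hcards hr₀.1 hr₂.1 hne02, hcards hr₁.1 hr₂.1 hne12⟩
  · intro V hV W hW hne
    exact Set.disjoint_toFinset.2 (hdisj (Set.mem_toFinset.1 hV) (Set.mem_toFinset.1 hW) hne)

end Hyp

end CfsgLib.Suzuki
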